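import Cfsg.Agent.H858.VK
import Cfsg.Agent.H858.FixJ4
import Cfsg.Agent.H866.J4Odd
import Cfsg.Agent.Mrg.Omega.ML.ExLow.NumX_m3
import Cfsg.Agent.Mrg.Omega.EH3.Rank1.Suz
import Cfsg.Agent.H865.Seven
import Cfsg.Agent.FastGrp
import Cfsg.Agent.Prune
set_option linter.all false

section
prune_inst 0x7ffffcfbbff9bddfffff7e7ffffddffffdfcffffffdffbfbfffdffffafdf6b6ffff5fbafffef58ffaef6f2b632f87bd3fbffcfffeffbdc7ffffd5ff47fffff9fffffbd8d51ffbcb41ffc6ffffbfbffee7f3fffffffffffffffffffffffffffffffffffffffff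

-- part: H935/J4Max/ListCl
section
prune_inst 0x10440060220000000000002200002010000002004000000000000009490000004000000230001080c000804800404003000100421000000a000000000400000001000000100c00000000000000000000000000000000000000000000000000000000000
set_option linter.all false
open scoped Cfsg.Agent.FastGrp

-- part: H935/J4Max/Eval
section
/-!
# Kernel computations with words in J4 (helper935)

Words in the generators `x, y, y⁻¹, t` of J4 are evaluated in the 112-dimensional representation over GF(2).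
-/

set_option autoImplicit false

namespace Cfsg.Agent.H935.J4Max.Eval

open Cfsg.Agent.Lib Cfsg.Agent.Lib.F2MatGroup Cfsg.Agent.J4.Rep112

theorem rho_inj : Function.Injective rho := Cfsg.Agent.H858.VK.rho_injective

instance finJ4 : Finite Cfsg.Spor.J4 := Cfsg.Agent.H858.FixJ4.facts.1

/-- the results of a straight line program in J4 -/
noncomputable def LJ (ws : List (List ℕ)) : List Cfsg.Spor.J4 := runG ws gens

/-- the elements of J4 given by a word in the results of a straight line program -/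
noncomputable def E (ws : List (List ℕ)) (w : List ℕ) : Cfsg.Spor.J4 := evG (LJ ws) w

theorem rho_E (ws : List (List ℕ)) (w : List ℕ) :
    rho (E ws w) = evG (runG ws (gens.map rho)) w := by
  rw [runG_map, evG_map]
  rfl

theorem check_J {ws : List (List ℕ)} {es ns : List (List ℕ × List ℕ)}
    (hc : check 112 codes ws es ns = true) :
    (∀ p ∈ es, E ws p.1 = E ws p.2) ∧ (∀ p ∈ ns, E ws p.1 ≠ E ws p.2) := by
  obtain ⟨h1, h2⟩ := check_sound (by norm_num) codes_gens hc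
  constructor
  · intro p hp
    apply rho_inj
    rw [rho_E, rho_E]
    exact h1 p hp
  · intro p hp h
    apply h2 p hp
    rw [← rho_E, ← rho_E, h]

/-- the stabilizer of the row space of a matrix -/
noncomputable def Stab (B : Matrix (Fin 112) (Fin 112) (ZMod 2)) : Subgroup Cfsg.Spor.J4 where
  carrier := {g | ∃ A : Matrix (Fin 112) (Fin 112) (ZMod 2),
    B * (rho g : Matrix (Fin 112) (Fin 112) (ZMod 2)) = A * B}
  one_mem' := ⟨1, by rw [map_one, Units.val_one, mul_one, one_mul]⟩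
  mul_mem' := by
    rintro g h ⟨A, hA⟩ ⟨A', hA'⟩
    refine ⟨A * A', ?_⟩
    rw [map_mul, Units.val_mul, ← mul_assoc, hA, mul_assoc, hA', mul_assoc]
  inv_mem' := by
    rintro g ⟨A, hA⟩
    have key : ∀ n : ℕ, B * (rho (g ^ n) : Matrix (Fin 112) (Fin 112) (ZMod 2)) = A ^ n * B := by
      intro n
      induction n with
      | zero => rw [pow_zero, pow_zero, map_one, Units.val_one, mul_one, one_mul]
      | succ n ih => rw [pow_succ, pow_succ, map_mul, Units.val_mul, ← mul_assoc, ih, mul_assoc, hA, mul_assoc]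
    refine ⟨A ^ (orderOf g - 1), ?_⟩
    rw [← key]
    congr 3
    have h1 : 0 < orderOf g := orderOf_pos g
    have h2 : g ^ (orderOf g - 1) * g = 1 := by
      rw [← pow_succ, Nat.sub_add_cancel h1, pow_orderOf_eq_one]
    exact (eq_inv_of_mul_eq_one_left h2).symm

theorem mem_stab {Bc Ac code : ℕ} {g : Cfsg.Spor.J4} (hc : Codes 112 (rho g) code)
    (h : Nat.beq (F2Mat.mul 112 Bc code) (F2Mat.mul 112 Ac Bc) = true) :
    g ∈ Stab (F2Mat.toMat 112 Bc) := by
  refine ⟨F2Mat.toMat 112 Ac, ?_⟩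
  unfold Codes at hc
  rw [hc, ← F2Mat.toMat_mul, ← F2Mat.toMat_mul, Nat.eq_of_beq_eq_true h]

theorem toMat_zero : F2Mat.toMat 112 0 = 0 := by
  ext i j
  rw [F2Mat.toMat_apply]
  simp [F2Mat.bz]

theorem not_mem_stab {Bc Cc code : ℕ} {g : Cfsg.Spor.J4} (hc : Codes 112 (rho g) code)
    (h0 : Nat.beq (F2Mat.mul 112 Bc Cc) 0 = true)
    (h1 : Nat.beq (F2Mat.mul 112 (F2Mat.mul 112 Bc code) Cc) 0 = false) :
    g ∉ Stab (F2Mat.toMat 112 Bc) := by
  rintro ⟨A, hA⟩
  unfold Codes at hc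
  have h2 : F2Mat.toMat 112 (F2Mat.mul 112 (F2Mat.mul 112 Bc code) Cc) = 0 := by
    rw [F2Mat.toMat_mul, F2Mat.toMat_mul, ← hc, hA, mul_assoc, ← F2Mat.toMat_mul,
      Nat.eq_of_beq_eq_true h0, toMat_zero, mul_zero]
  rw [← toMat_zero] at h2
  have h3 := F2Mat.toMat_inj (F2Mat.mul_lt (by norm_num) _ _) (by positivity) h2
  rw [h3] at h1
  exact absurd h1 (by decide)

/-- check of invariance: `(w, A)` with `B * w = A * B` -/
def invs (Bc : ℕ) (as : List (List ℕ × ℕ)) (L : List ℕ) : Bool :=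
  List.rec true (fun p _ ih => cond (Nat.beq (F2Mat.mul 112 Bc (evW 112 L p.1))
    (F2Mat.mul 112 p.2 Bc)) ih false) as

theorem invs_sound {ws : List (List ℕ)} {Bc : ℕ} {as : List (List ℕ × ℕ)}
    (h : run 112 ws codes (invs Bc as) = true) :
    ∀ p ∈ as, E ws p.1 ∈ Stab (F2Mat.toMat 112 Bc) := by
  obtain ⟨L', h', hk⟩ := run_sound codes_gens h
  induction as with
  | nil => intro p hp; simp at hp
  | cons q as ih =>
    have he' : cond (Nat.beq (F2Mat.mul 112 Bc (evW 112 L' q.1)) (F2Mat.mul 112 q.2 Bc))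
      (invs Bc as L') false = true := hk
    rcases hb : Nat.beq (F2Mat.mul 112 Bc (evW 112 L' q.1)) (F2Mat.mul 112 q.2 Bc) with _ | _
    · rw [hb] at he'; exact absurd he' Bool.false_ne_true
    · rw [hb] at he'
      intro p hp
      rcases List.mem_cons.mp hp with rfl | hp
      · refine mem_stab ?_ hb
        rw [rho_E]
        exact codes_evW h' _
      · have key : ∀ (as : List (List ℕ × ℕ)), invs Bc as L' = true →
            ∀ p ∈ as, E ws p.1 ∈ Stab (F2Mat.toMat 112 Bc) := by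
          intro as
          induction as with
          | nil => intro _ p hp; simp at hp
          | cons q as ih =>
            intro hk
            have he' : cond (Nat.beq (F2Mat.mul 112 Bc (evW 112 L' q.1)) (F2Mat.mul 112 q.2 Bc))
              (invs Bc as L') false = true := hk
            rcases hb : Nat.beq (F2Mat.mul 112 Bc (evW 112 L' q.1)) (F2Mat.mul 112 q.2 Bc) with _ | _
            · rw [hb] at he'; exact absurd he' Bool.false_ne_true
            · rw [hb] at he'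
              intro p hp
              rcases List.mem_cons.mp hp with rfl | hp
              · refine mem_stab ?_ hb
                rw [rho_E]
                exact codes_evW h' _
              · exact ih he' p hp
        exact key as he' p hp

end Cfsg.Agent.H935.J4Max.Eval
end

-- part: H935/J4Max/ListCl
section
/-!
# Subgroups of J4 listed by a straight line program (helper935)
-/

set_option autoImplicit false

namespace Cfsg.Agent.H935.J4Max.ListCl

open Cfsg.Agent.Lib Cfsg.Agent.Lib.F2MatGroup Cfsg.Agent.J4.Rep112 Cfsg.Agent.H935.J4Max.Eval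

/-! ### Lists of packed matrices -/

def memB (a : ℕ) (L : List ℕ) : Bool :=
  List.rec (motive := fun _ => Bool) false (fun b _ ih => cond (Nat.beq a b) true ih) L

def ndB (L : List ℕ) : Bool :=
  List.rec (motive := fun _ => Bool) true (fun a L ih => cond (memB a L) false ih) L

theorem memB_cons (a b : ℕ) (L : List ℕ) : memB a (b :: L) = cond (Nat.beq a b) true (memB a L) := rfl

theorem ndB_cons (a : ℕ) (L : List ℕ) : ndB (a :: L) = cond (memB a L) false (ndB L) := rfl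

theorem memB_of_mem {a : ℕ} {L : List ℕ} (h : a ∈ L) : memB a L = true := by
  induction L with
  | nil => simp at h
  | cons b L ih =>
    rw [memB_cons]
    rcases List.mem_cons.1 h with rfl | h
    · rw [Nat.beq_refl, cond_true]
    · rw [ih h]
      cases Nat.beq a b <;> rfl

theorem nodup_of_ndB {L : List ℕ} (h : ndB L = true) : L.Nodup := by
  induction L with
  | nil => exact List.nodup_nil
  | cons a L ih =>
    rw [ndB_cons] at h
    rcases hm : memB a L with _ | _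
    · rw [hm] at h
      refine List.nodup_cons.2 ⟨fun h0 => ?_, ih h⟩
      rw [memB_of_mem h0] at hm
      exact absurd hm (by decide)
    · rw [hm] at h
      exact absurd h Bool.false_ne_true

theorem nodup_forall {n : ℕ} {A : List (GL (Fin n) (ZMod 2))} {B : List ℕ} (h : List.Forall₂ (Codes n) A B)
    (hb : ∀ b ∈ B, b < 2 ^ (n * n)) (hB : B.Nodup) : A.Nodup := by
  induction h with
  | nil => exact List.nodup_nil
  | @cons a b A B h1 h2 ih =>
    obtain ⟨h3, h4⟩ := List.nodup_cons.1 hB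
    refine List.nodup_cons.2 ⟨fun h0 => h3 ?_, ih (fun b hb' => hb b (List.mem_cons_of_mem _ hb')) h4⟩
    have key : ∀ {A : List (GL (Fin n) (ZMod 2))} {B : List ℕ}, List.Forall₂ (Codes n) A B → a ∈ A →
        ∃ b' ∈ B, Codes n a b' := by
      intro A B h
      induction h with
      | nil => intro h; simp at h
      | @cons a' b' A B h1 h2 ih =>
        intro h
        rcases List.mem_cons.1 h with rfl | h
        · exact ⟨b', List.mem_cons_self, h1⟩
        · obtain ⟨b'', h3, h4⟩ := ih h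
          exact ⟨b'', List.mem_cons_of_mem _ h3, h4⟩
    obtain ⟨b', hb', h5⟩ := key h2 h0
    unfold Codes at h1 h5
    have h6 : F2Mat.toMat n b = F2Mat.toMat n b' := by rw [← h1, h5]
    rw [F2Mat.toMat_inj (hb b List.mem_cons_self) (hb b' (List.mem_cons_of_mem _ hb')) h6]
    exact hb'

theorem forall₂_take {α β : Type*} {R : α → β → Prop} {A : List α} {B : List β} (h : List.Forall₂ R A B) (k : ℕ) :
    List.Forall₂ R (A.take k) (B.take k) := by
  induction h generalizing k with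
  | nil => simp
  | cons h1 h2 ih =>
    rcases k with _ | k
    · simp
    · exact List.Forall₂.cons h1 (ih k)

theorem run_sound2 {n : ℕ} (hn : 0 < n) {ws : List (List ℕ)} {LG : List (GL (Fin n) (ZMod 2))} {L : List ℕ}
    {k : List ℕ → Bool} (h : List.Forall₂ (Codes n) LG L) (hb : ∀ a ∈ L, a < 2 ^ (n * n))
    (hr : run n ws L k = true) :
    ∃ L', List.Forall₂ (Codes n) (runG ws LG) L' ∧ (∀ a ∈ L', a < 2 ^ (n * n)) ∧ k L' = true := by
  induction ws generalizing LG L with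
  | nil => exact ⟨L, h, hb, hr⟩
  | cons w ws ih =>
    rw [run_cons] at hr
    rw [runG_cons]
    refine ih (List.Forall₂.cons (codes_evW h w) h) ?_ hr
    intro a ha
    rcases List.mem_cons.1 ha with rfl | ha
    · exact evW_lt hn L w
    · exact hb a ha

theorem codes_lt : ∀ a ∈ codes, a < 2 ^ (112 * 112) := by decide +kernel

/-- the check: the first `k` results are distinct, and relations -/
def chk (ws : List (List ℕ)) (k : ℕ) (es ns : List (List ℕ × List ℕ)) : Bool :=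
  run 112 ws codes fun L => cond (ndB (L.take k)) (cond (eqs 112 es L) (neqs 112 ns L) false) false

theorem chk_sound {ws : List (List ℕ)} {k : ℕ} {es ns : List (List ℕ × List ℕ)} (hc : chk ws k es ns = true) :
    ((LJ ws).take k).Nodup ∧ (∀ p ∈ es, E ws p.1 = E ws p.2) ∧ (∀ p ∈ ns, E ws p.1 ≠ E ws p.2) := by
  obtain ⟨L', h', hb, hk⟩ := run_sound2 (by norm_num) codes_gens codes_lt hc
  rcases h1 : ndB (L'.take k) with _ | _
  · rw [h1] at hk; exact absurd hk Bool.false_ne_true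
  · rw [h1] at hk
    have hk' : cond (eqs 112 es L') (neqs 112 ns L') false = true := hk
    rcases h2 : eqs 112 es L' with _ | _
    · rw [h2] at hk'; exact absurd hk' Bool.false_ne_true
    · rw [h2] at hk'
      refine ⟨?_, ?_, ?_⟩
      · have h3 := nodup_forall (forall₂_take h' k) (fun b hb' => hb b (List.mem_of_mem_take hb')) (nodup_of_ndB h1)
        rw [runG_map, ← List.map_take] at h3
        exact List.Nodup.of_map _ h3
      · intro p hp
        apply rho_inj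
        rw [rho_E, rho_E]
        exact eqs_sound h' h2 p hp
      · intro p hp h
        apply neqs_sound (by norm_num) h' hk' p hp
        rw [← rho_E, ← rho_E, h]

/-! ### Shifts -/

theorem getG_runG_add {G : Type*} [Group G] (ws : List (List ℕ)) (L : List G) (i : ℕ) :
    getG (runG ws L) (ws.length + i) = getG L i := by
  induction ws generalizing L i with
  | nil => rw [runG_nil, List.length_nil, zero_add]
  | cons w ws ih =>
    rw [runG_cons, List.length_cons, show ws.length + 1 + i = ws.length + (i + 1) by ring, ih]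
    rfl

theorem runG_append {G : Type*} [Group G] (ws ws' : List (List ℕ)) (L : List G) :
    runG (ws ++ ws') L = runG ws' (runG ws L) := by
  induction ws generalizing L with
  | nil => rfl
  | cons w ws ih => rw [List.cons_append, runG_cons, runG_cons, ih]

theorem length_runG {G : Type*} [Group G] (ws : List (List ℕ)) (L : List G) :
    (runG ws L).length = ws.length + L.length := by
  induction ws generalizing L with
  | nil => simp [runG_nil]
  | cons w ws ih => rw [runG_cons, ih, List.length_cons, List.length_cons]; ring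

theorem E_shift (ws ws' : List (List ℕ)) (i : ℕ) : E (ws ++ ws') [ws'.length + i] = E ws [i] := by
  unfold E LJ
  rw [evG_cons, evG_cons, evG_nil, evG_nil, runG_append, getG_runG_add]

/-! ### Listed subgroups -/

theorem mem_of_closed {G : Type*} [Group G] [Finite G] {A : Set G} {S : Set G} (h1 : (1 : G) ∈ A)
    (hm : ∀ a ∈ A, ∀ s ∈ S, a * s ∈ A) {x : G} (hx : x ∈ Subgroup.closure S) : x ∈ A := by
  have key : ∀ a ∈ A, a * x ∈ A := by
    induction hx using Subgroup.closure_induction with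
    | mem x hx => exact fun a ha => hm a ha x hx
    | one => intro a ha; rwa [mul_one]
    | mul x y _ _ h1 h2 => intro a ha; rw [← mul_assoc]; exact h2 _ (h1 _ ha)
    | inv x _ h =>
      intro a ha
      have h2 : ∀ n : ℕ, a * x ^ n ∈ A := by
        intro n
        induction n with
        | zero => rwa [pow_zero, mul_one]
        | succ n ih => rw [pow_succ, ← mul_assoc]; exact h _ ih
      have h3 : x⁻¹ = x ^ (orderOf x - 1) := by
        have h4 : x ^ (orderOf x - 1) * x = 1 := by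
          rw [← pow_succ, Nat.sub_add_cancel (orderOf_pos x), pow_orderOf_eq_one]
        exact (eq_inv_of_mul_eq_one_left h4).symm
      rw [h3]
      exact h2 _
  have := key 1 h1
  rwa [one_mul] at this

/-- The first `k` elements of the list form a subgroup generated by the elements with the indices `gs`. The table
gives the products; `o` is the index of the identity. -/
theorem closed_of_tab {G : Type*} [Group G] [Finite G] {L : List G} {k o : ℕ} {gs : List ℕ} {tab : ℕ → ℕ → ℕ}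
    (hk : k ≤ L.length) (ho : o < k) (h1 : getG L o = 1)
    (ht : ∀ i < k, ∀ j < gs.length, getG L i * getG L (gs.getD j 0) = getG L (tab i j) ∧ tab i j < k)
    (htree : ∀ i < k, i = o ∨ ∃ i' < k, i < i' ∧ ∃ j < gs.length, tab i' j = i)
    (hoo : ∀ i < k, i ≤ o) (hnd : (L.take k).Nodup) :
    (∀ x ∈ Subgroup.closure {x | ∃ j < gs.length, getG L (gs.getD j 0) = x}, ∃ i < k, getG L i = x) ∧
      Nat.card (Subgroup.closure {x | ∃ j < gs.length, getG L (gs.getD j 0) = x}) = k := by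
  have hA : ∀ x ∈ Subgroup.closure {x | ∃ j < gs.length, getG L (gs.getD j 0) = x},
      x ∈ {x | ∃ i < k, getG L i = x} := by
    intro x hx
    refine mem_of_closed (A := {x | ∃ i < k, getG L i = x}) ⟨o, ho, h1⟩ ?_ hx
    rintro _ ⟨i, hi, rfl⟩ _ ⟨j, hj, rfl⟩
    obtain ⟨h2, h3⟩ := ht i hi j hj
    exact ⟨_, h3, h2.symm⟩
  refine ⟨hA, ?_⟩
  have hB : ∀ i < k, getG L i ∈ Subgroup.closure {x | ∃ j < gs.length, getG L (gs.getD j 0) = x} := by
    have key : ∀ m i : ℕ, i < k → o - i ≤ m →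
        getG L i ∈ Subgroup.closure {x | ∃ j < gs.length, getG L (gs.getD j 0) = x} := by
      intro m
      induction m with
      | zero =>
        intro i hi hm
        have : i = o := by have := hoo i hi; omega
        rw [this, h1]
        exact Subgroup.one_mem _
      | succ m ih =>
        intro i hi hm
        rcases htree i hi with rfl | ⟨i', hi', hlt, j, hj, h2⟩
        · rw [h1]; exact Subgroup.one_mem _
        · rw [← h2, ← (ht i' hi' j hj).1]
          exact Subgroup.mul_mem _ (ih i' hi' (by omega)) (Subgroup.subset_closure ⟨j, hj, rfl⟩)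
    exact fun i hi => key _ i hi le_rfl
  have hget : ∀ i : ℕ, (hi : i < k) → (L.take k)[i]'(by rw [List.length_take]; omega) = getG L i := by
    intro i hi
    rw [List.getElem_take]
    unfold getG
    rw [List.getD_eq_getElem _ _ (by omega)]
  let f : Fin k → Subgroup.closure {x | ∃ j < gs.length, getG L (gs.getD j 0) = x} := fun i =>
    ⟨getG L i, hB i i.2⟩
  have hf : Function.Bijective f := by
    constructor
    · intro i j hij
      have h2 : getG L i = getG L j := congrArg Subtype.val hij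
      rw [← hget i i.2, ← hget j j.2] at h2
      exact Fin.ext ((hnd.getElem_inj_iff).1 h2)
    · rintro ⟨x, hx⟩
      obtain ⟨i, hi, h2⟩ := hA x hx
      exact ⟨⟨i, hi⟩, Subtype.ext h2⟩
  rw [← Nat.card_congr (Equiv.ofBijective f hf), Nat.card_eq_fintype_card, Fintype.card_fin]

end Cfsg.Agent.H935.J4Max.ListCl
end
end

-- part: H935/J4Max/M22Fin
section
prune_inst 0x200000040000000000000000000000200000000000000000000100000000000000000008000100000080000000000000000000000000002000000000000000002222800000a000200000000001100000000000000000000000000000000000000000000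
set_option linter.all false
open scoped Cfsg.Agent.FastGrp

-- part: H935/J4Max/M22Abs
section
/-!
# The maximal subgroup `Aut(M₂₂)` of `J₄`: group theory (helper935)

`Data G` collects what is read off from explicit matrices; `Facts G` are the facts on `J₄`.
-/

set_option autoImplicit false

namespace Cfsg.Agent.H935.J4Max.M22Abs

open Cfsg Subgroup
open Cfsg.Agent.OrdDiv
open Cfsg.Agent.H866.J4Ord Cfsg.Agent.H866.J4Min Cfsg.Agent.H866.OddTools Cfsg.Agent.H866.J4Odd
open Cfsg.Agent.OddOrderLocal.SylIn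

universe u

set_option linter.unusedSectionVars false

variable {G : Type u} [Group G] [Finite G]

/-- a `p`-group acting on a `q`-group -/
theorem le_cent_of_pow {p q a : ℕ} [Fact p.Prime] [hq : Fact q.Prime] {U R : Subgroup G} (hU : IsPGroup p U)
    (hn : U ≤ normalizer (R : Set G)) (hR : Nat.card R = q ^ a) (h : ∀ i < a, q ^ i % p ≠ q ^ a % p) :
    R ≤ centralizer (U : Set G) := by
  have h1 := card_mod hU hn
  obtain ⟨i, hi, h2⟩ := (Nat.dvd_prime_pow hq.out).1
    (hR ▸ Subgroup.card_dvd_of_le (inf_le_left : R ⊓ centralizer (U : Set G) ≤ R))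
  rw [hR, h2] at h1
  have h3 : i = a := by
    by_contra hne
    exact h i (lt_of_le_of_ne hi hne) h1.symm
  have h4 : R ⊓ centralizer (U : Set G) = R :=
    Subgroup.eq_of_le_of_card_ge inf_le_left (by rw [h2, hR, h3])
  exact inf_eq_left.1 h4

/-- a `p`-group acting on a `p'`-group `R` such that it acts trivially on the `q`-groups of the orders
dividing `|R|` -/
theorem le_cent_of_sylow {p : ℕ} [Fact p.Prime] {U R : Subgroup G} (hU : IsPGroup p U)
    (hn : U ≤ normalizer (R : Set G)) (hp : ¬ p ∣ Nat.card R)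
    (h : ∀ q a : ℕ, q.Prime → 0 < a → q ^ a ∣ Nat.card R → ∀ i < a, q ^ i % p ≠ q ^ a % p) :
    R ≤ centralizer (U : Set G) := by
  have h0 : Nat.card R ∣ Nat.card (R ⊓ centralizer (U : Set G) : Subgroup G) := by
    rw [← Nat.factorization_prime_le_iff_dvd Nat.card_pos.ne' Nat.card_pos.ne']
    intro q hq
    have : Fact q.Prime := ⟨hq⟩
    obtain ⟨Q, hQ⟩ := Lib.CoprimeHyperplane.exists_invariant_sylow hU hn hp q
    have h1 : Nat.card ((Q : Subgroup R).map R.subtype : Subgroup G) = q ^ (Nat.card R).factorization q := by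
      rw [Subgroup.card_map_of_injective R.subtype_injective, Q.card_eq_multiplicity]
    rcases Nat.eq_zero_or_pos ((Nat.card R).factorization q) with h2 | h2
    · rw [h2]; exact Nat.zero_le _
    · have h3 := le_cent_of_pow hU hQ h1 (h q _ hq h2 (Nat.ordProj_dvd _ _))
      have h4 : (Q : Subgroup R).map R.subtype ≤ R ⊓ centralizer (U : Set G) :=
        le_inf (Subgroup.map_subtype_le _) h3
      have h5 := Subgroup.card_dvd_of_le h4
      rw [h1] at h5
      exact (hq.pow_dvd_iff_le_factorization Nat.card_pos.ne').1 h5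
  have h6 : R ⊓ centralizer (U : Set G) = R :=
    Subgroup.eq_of_le_of_card_ge inf_le_left (Nat.le_of_dvd Nat.card_pos h0)
  exact inf_eq_left.1 h6

/-- the primes and exponents for which the elements of order 11 act trivially -/
def l5 : List (ℕ × ℕ) := [(2, 5), (3, 2), (5, 1), (7, 1), (31, 1)]

theorem valid_l5 : valid l5 312480 = true := by decide +kernel

theorem l5_ok : ∀ x ∈ l5, ∀ a ≤ x.2, ∀ i < a, x.1 ^ i % 11 ≠ x.1 ^ a % 11 := by decide +kernel

instance fact11 : Fact (Nat.Prime 11) := ⟨by norm_num⟩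
instance fact7 : Fact (Nat.Prime 7) := ⟨by norm_num⟩

theorem isPGroup_zpowers {x : G} {p : ℕ} (h : orderOf x = p) : IsPGroup p (zpowers x) :=
  IsPGroup.of_card (n := 1) (by rw [Nat.card_zpowers, h, pow_one])

/-- an element of order 11 normalizing `R` with `|R|` dividing `2^5·3^2·5·7·31` centralizes it -/
theorem le_cent_eleven {b : G} (hb : orderOf b = 11) {R : Subgroup G} (hn : zpowers b ≤ normalizer (R : Set G))
    (hR : Nat.card R ∣ 312480) : R ≤ centralizer (zpowers b : Set G) := by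
  refine le_cent_of_sylow (isPGroup_zpowers hb) hn (fun h => ?_) ?_
  · have := h.trans hR
    norm_num at this
  · intro q a hq ha hqa i hi
    obtain ⟨k, hk, hak⟩ := exists_pair valid_l5 hq ha (hqa.trans hR)
    exact l5_ok _ hk a hak i hi

/-- the data read off from matrices -/
structure Data (G : Type u) [Group G] where
  d : G
  s : G
  b1 : G
  b2 : G
  f : G
  K : Subgroup G
  ne_top : K ≠ ⊤
  d_mem : d ∈ K
  b1_mem : b1 ∈ K
  b2_mem : b2 ∈ K
  f_mem : f ∈ K
  order_d : orderOf d = 7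
  order_b1 : orderOf b1 = 11
  order_b2 : orderOf b2 = 11
  order_f : orderOf f = 5
  d_gen : d ∈ closure {b1, b2}
  s_gen : s ∈ closure {b1, b2}
  inv : ∀ x : G, x * d = d * x → x * x = 1 → x ≠ 1 → ∃ k ∈ K, x * (k * x * k⁻¹) ≠ (k * x * k⁻¹) * x
  cent : ∀ x : G, x * d = d * x → x * s = s * x → x = 1
  three : ∀ x : G, x * d = d * x → orderOf x = 3 →
    ∃ w ∈ K ⊔ zpowers x, orderOf w ∈ [29, 31, 37, 43]
  sylow : 2 ^ 8 ∣ Nat.card K

variable (D : Data G)

namespace Data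

/-- a subgroup centralized by `b1` and `b2` is trivial -/
theorem bot_of_cent {R : Subgroup G} (h1 : R ≤ centralizer (zpowers D.b1 : Set G))
    (h2 : R ≤ centralizer (zpowers D.b2 : Set G)) : R = ⊥ := by
  rw [eq_bot_iff]
  intro x hx
  have h3 : closure {D.b1, D.b2} ≤ centralizer ({x} : Set G) := by
    rw [closure_le]
    rintro y (rfl | rfl)
    · have := (mem_centralizer_iff.1 (h1 hx)) _ (mem_zpowers D.b1)
      exact mem_centralizer_singleton_iff.2 this
    · have := (mem_centralizer_iff.1 (h2 hx)) _ (mem_zpowers D.b2)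
      exact mem_centralizer_singleton_iff.2 this
  exact mem_bot.2 (D.cent x (mem_centralizer_singleton_iff.1 (h3 D.d_gen)).symm
    (mem_centralizer_singleton_iff.1 (h3 D.s_gen)).symm)

theorem zb1_le {M R : Subgroup G} (hK : D.K ≤ M) (hn : M ≤ normalizer (R : Set G)) :
    zpowers D.b1 ≤ normalizer (R : Set G) := zpowers_le.2 (hn (hK D.b1_mem))

theorem zb2_le {M R : Subgroup G} (hK : D.K ≤ M) (hn : M ≤ normalizer (R : Set G)) :
    zpowers D.b2 ≤ normalizer (R : Set G) := zpowers_le.2 (hn (hK D.b2_mem))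

theorem zd_le {M R : Subgroup G} (hK : D.K ≤ M) (hn : M ≤ normalizer (R : Set G)) :
    zpowers D.d ≤ normalizer (R : Set G) := zpowers_le.2 (hn (hK D.d_mem))

/-- a `q`-group normalized by `M` on which the elements of order 11 act trivially -/
theorem bot_of_pow {M R : Subgroup G} (hK : D.K ≤ M) (hn : M ≤ normalizer (R : Set G)) {q a : ℕ} (hq : q.Prime)
    (hR : Nat.card R = q ^ a) (h : ∀ i < a, q ^ i % 11 ≠ q ^ a % 11) : R = ⊥ := by
  have : Fact q.Prime := ⟨hq⟩
  exact D.bot_of_cent (le_cent_of_pow (isPGroup_zpowers D.order_b1) (D.zb1_le hK hn) hR h)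
    (le_cent_of_pow (isPGroup_zpowers D.order_b2) (D.zb2_le hK hn) hR h)

theorem bot_of_dvd {M R : Subgroup G} (hK : D.K ≤ M) (hn : M ≤ normalizer (R : Set G))
    (hR : Nat.card R ∣ 312480) : R = ⊥ :=
  D.bot_of_cent (le_cent_eleven D.order_b1 (D.zb1_le hK hn) hR) (le_cent_eleven D.order_b2 (D.zb2_le hK hn) hR)

theorem card_zd : Nat.card (zpowers D.d) = 7 := by rw [Nat.card_zpowers, D.order_d]

/-- `|C(d)| = 840` -/
theorem card_cd (F : Facts G) : Nat.card (centralizer (zpowers D.d : Set G)) = 840 := by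
  obtain ⟨h1, h2⟩ := F.n7 (zpowers D.d) D.card_zd
  omega

/-- no normal elementary abelian subgroup -/
theorem not_elem (F : Facts G) {M R : Subgroup G} (hK : D.K ≤ M) (hn : M ≤ normalizer (R : Set G)) (hR : R ≠ ⊥)
    {r : ℕ} (hr : r.Prime) (h : IsElementaryAbelian r R) : False := by
  obtain ⟨x, hx, j, hj1, hj2, hj3, rfl, hj⟩ := F.ea_card hR hr h
  have hd := isPGroup_zpowers D.order_d
  have hm := card_mod hd (D.zd_le hK hn)
  have hle : Nat.card (R ⊓ centralizer (zpowers D.d : Set G) : Subgroup G) ∣ 840 := by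
    rw [← D.card_cd F]
    exact Subgroup.card_dvd_of_le inf_le_right
  have hle2 : Nat.card (R ⊓ centralizer (zpowers D.d : Set G) : Subgroup G) ∣ x.1 ^ j := by
    rw [← hj]
    exact Subgroup.card_dvd_of_le inf_le_left
  have key : ∀ {q a : ℕ}, x.1 = q → j = a → (∀ i < a, q ^ i % 11 ≠ q ^ a % 11) → False := by
    intro q a hq ha h
    subst hq ha
    exact hR (D.bot_of_pow hK hn hr hj h)
  simp only [lJ, List.mem_cons, List.not_mem_nil, or_false] at hx
  rcases hx with rfl | rfl | rfl | rfl | rfl | rfl | rfl | rfl | rfl | rfl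
  · -- `r = 2`
    have hj4 := hj3 rfl
    by_cases hc : R ⊓ centralizer (zpowers D.d : Set G) = ⊥
    · rw [hc, Subgroup.card_bot, hj] at hm
      have h1 : 2 ^ j % 7 = 1 := hm
      have h2 : j = 3 ∨ j = 6 ∨ j = 9 := by
        clear key hm hj3 hj hle hle2
        interval_cases j <;> omega
      rcases h2 with rfl | rfl | rfl
      · exact key rfl rfl (by decide)
      · exact key rfl rfl (by decide)
      · exact key rfl rfl (by decide)
    · obtain ⟨⟨y, hy⟩, hy0⟩ := Subgroup.ne_bot_iff_exists_ne_one.1 hc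
      have hy1 : y ≠ 1 := fun h0 => hy0 (Subtype.ext h0)
      have h1 : (y : G) * D.d = D.d * y := ((mem_centralizer_iff.1 hy.2) _ (mem_zpowers D.d)).symm
      have h2 : (y : G) * y = 1 := by
        have := h.2 (y : G) hy.1
        rwa [pow_two] at this
      obtain ⟨k, hk, h3⟩ := D.inv y h1 h2 hy1
      apply h3
      have h4 : k * y * k⁻¹ ∈ R := ((mem_normalizer_iff.1 (hn (hK hk))) _).1 hy.1
      exact congrArg Subtype.val (h.1.is_comm.comm (⟨y, hy.1⟩ : R) ⟨_, h4⟩)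
  · -- `r = 3`
    simp only at hj2 key
    interval_cases j
    · exact key rfl rfl (by decide)
    · exact key rfl rfl (by decide)
    · exact key rfl rfl (by decide)
  · simp only at hj2 key
    interval_cases j
    exact key rfl rfl (by decide)
  · simp only at hj2 key
    interval_cases j
    exact key rfl rfl (by decide)
  · -- `r = 11`
    simp only at hj2 hle2 hj
    have h1 : Nat.card (R ⊓ centralizer (zpowers D.d : Set G) : Subgroup G) = 1 :=
      Nat.eq_one_of_dvd_coprimes (a := 840) (b := 11 ^ j) (Nat.Coprime.pow_right _ (by norm_num)) hle hle2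
    rw [h1, hj] at hm
    have h2 : 11 ^ j % 7 = 1 := hm
    have h3 : j = 3 := by
      clear key hm hj3 hj hle2
      interval_cases j <;> omega
    subst h3
    have h4 := F.n11 R hj
    have h5 : Nat.card (zpowers D.d) ∣ Nat.card (normalizer (R : Set G)) :=
      Subgroup.card_dvd_of_le (D.zd_le hK hn)
    rw [D.card_zd, h4] at h5
    norm_num at h5
  · -- `r = 23`
    simp only at hj2 hle2 hj
    have hj5 : j = 1 := by omega
    subst hj5
    have h1 : Nat.card (R ⊓ centralizer (zpowers D.d : Set G) : Subgroup G) = 1 :=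
      Nat.eq_one_of_dvd_coprimes (a := 840) (b := 23 ^ 1) (by norm_num) hle hle2
    rw [h1, hj] at hm
    exact absurd (show 23 ^ 1 % 7 = 1 from hm) (by norm_num)
  · simp only at hj2 key
    interval_cases j
    exact key rfl rfl (by decide)
  · simp only at hj2 key
    interval_cases j
    exact key rfl rfl (by decide)
  · simp only at hj2 key
    interval_cases j
    exact key rfl rfl (by decide)
  · simp only at hj2 key
    interval_cases j
    exact key rfl rfl (by decide)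

theorem ords_a : ∀ n ∈ ords, ¬ 11 ∣ n → ¬ 7 ∣ n → n ∣ 312480 := by decide +kernel

theorem ords_b : ∀ n ∈ ords, ¬ 7 ^ 2 ∣ n := by decide +kernel

theorem ords_c : ∀ n ∈ ords, 11 ∣ n → ¬ 11 ^ 2 ∣ n ∨ 11 ^ 3 ∣ n ∧ ¬ 11 ^ 4 ∣ n := by decide +kernel

theorem ords_d : ∀ n ∈ ords, 7 ∣ n → 11 ∣ n →
    n = 39732 ∨ n = 443520 ∨ n = 10200960 ∨ n = 244823040 ∨ n = nJ := by decide +kernel

theorem le_cent_comm {A B : Subgroup G} (h : A ≤ centralizer (B : Set G)) : B ≤ centralizer (A : Set G) :=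
  Subgroup.le_centralizer_iff.1 h

/-- the order of a normal simple subgroup -/
theorem card_simple (F : Facts G) {M R : Subgroup G} (hK : D.K ≤ M) (hM : M ≠ ⊤) (hRM : R ≤ M)
    (hn : M ≤ normalizer (R : Set G)) (hR : R ≠ ⊥) (hc : Nat.card R ∈ ords) :
    Nat.card R = 443520 ∨ Nat.card R = 10200960 ∨ Nat.card R = 244823040 := by
  have hd := isPGroup_zpowers D.order_d
  have hb := isPGroup_zpowers D.order_b1
  have hcd := D.card_cd F
  by_cases h11 : 11 ∣ Nat.card R
  · by_cases h7 : 7 ∣ Nat.card R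
    · rcases ords_d _ hc h7 h11 with h | h | h | h | h
      · exfalso
        have : Fact (Nat.Prime 5) := ⟨by norm_num⟩
        obtain ⟨Y, hY, hY1, hY2⟩ := exists_cent (isPGroup_zpowers D.order_f)
          (zpowers_le.2 (hn (hK D.f_mem))) (K := R) (by rw [h]; norm_num) (q := 43) (by norm_num)
          (by rw [h]; norm_num) (by rw [h]; norm_num) (by norm_num)
        have h1 : zpowers D.f ≤ Y := (le_cent_comm hY2).trans (F.c43 Y hY1)
        have h2 := Subgroup.card_dvd_of_le h1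
        rw [Nat.card_zpowers, D.order_f, hY1] at h2
        norm_num at h2
      · exact Or.inl h
      · exact Or.inr (Or.inl h)
      · exact Or.inr (Or.inr h)
      · exact absurd (top_le_iff.1 (F.eq_top h ▸ hRM)) hM
    · exfalso
      rcases ords_c _ hc h11 with h | ⟨h, h'⟩
      · obtain ⟨Y, hY, hY1, hY2⟩ := exists_cent hd (D.zd_le hK hn) h7 (q := 11) (by norm_num) h11 h (by norm_num)
        have h2 := Subgroup.card_dvd_of_le hY2
        rw [hY1, hcd] at h2
        norm_num at h2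
      · obtain ⟨Q, hQ⟩ := Lib.CoprimeHyperplane.exists_invariant_sylow hd (D.zd_le hK hn) h7 11
        have h1 : Nat.card ((Q : Subgroup R).map R.subtype : Subgroup G) = 11 ^ 3 := by
          rw [Subgroup.card_map_of_injective R.subtype_injective, Q.card_eq_multiplicity]
          congr 1
          have h11p : Nat.Prime 11 := by norm_num
          apply le_antisymm
          · by_contra h2
            push Not at h2
            exact h' ((h11p.pow_dvd_iff_le_factorization Nat.card_pos.ne').2 h2)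
          · exact (h11p.pow_dvd_iff_le_factorization Nat.card_pos.ne').1 h
        have h2 := Subgroup.card_dvd_of_le hQ
        rw [D.card_zd, F.n11 _ h1] at h2
        norm_num at h2
  · exfalso
    by_cases h7 : 7 ∣ Nat.card R
    · obtain ⟨Y, hY, hY1, hY2⟩ := exists_cent hb (D.zb1_le hK hn) h11 (q := 7) (by norm_num) h7
        (ords_b _ hc) (by norm_num)
      have h2 := Subgroup.card_dvd_of_le (le_cent_comm hY2)
      obtain ⟨h3, h4⟩ := F.n7 Y hY1
      rw [Nat.card_zpowers, D.order_b1, show Nat.card (centralizer (Y : Set G)) = 840 by omega] at h2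
      norm_num at h2
    · exact hR (D.bot_of_dvd hK hn (ords_a _ hc h11 h7))

/-- `7` divides the order of `J4` once -/
theorem seven_sq : ¬ 7 ^ 2 ∣ nJ := by norm_num [nJ]

theorem isSyl_of_seven (F : Facts G) {P X : Subgroup G} (hP : Nat.card P = 7) (hPX : P ≤ X) : IsSyl 7 P X := by
  refine ⟨hPX, IsPGroup.of_card (n := 1) (by rw [hP, pow_one]), fun h => seven_sq ?_⟩
  have h1 := card_mul_relIndex hPX
  obtain ⟨c, hc⟩ := h
  have h2 : 7 ^ 2 ∣ Nat.card X := ⟨c, by rw [← h1, hP, hc]; ring⟩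
  exact h2.trans (F.dvd X)

theorem exists_seven (F : Facts G) {X : Subgroup G} (h : 7 ∣ Nat.card X) : ∃ Q ≤ X, Nat.card Q = 7 := by
  obtain ⟨Q, hQ⟩ := exists_isSyl 7 X
  refine ⟨Q, hQ.le, ?_⟩
  obtain ⟨j, hj⟩ := IsPGroup.iff_card.1 hQ.isPGroup
  have h5 : j ≠ 0 := by
    rintro rfl
    have h6 := card_mul_relIndex hQ.le
    rw [hj, pow_zero, one_mul] at h6
    exact hQ.not_dvd (h6 ▸ h)
  have h6 : ¬ 2 ≤ j := fun h7 => seven_sq ((pow_dvd_pow _ h7).trans (hj ▸ F.dvd Q))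
  have h7 : j = 1 := by omega
  rw [hj, h7, pow_one]

/-- a subgroup of order 7 of `M` is contained in a normal subgroup of order divisible by 7 -/
theorem d_mem_of (F : Facts G) {M R : Subgroup G} (hK : D.K ≤ M) (hRM : R ≤ M)
    (hn : M ≤ normalizer (R : Set G)) (h7 : 7 ∣ Nat.card R) : D.d ∈ R := by
  obtain ⟨Q, hQR, hQ⟩ := exists_seven F h7
  obtain ⟨x, hx, h6⟩ := (isSyl_of_seven F hQ (hQR.trans hRM)).exists_conj
    (isSyl_of_seven F D.card_zd (zpowers_le.2 (hK D.d_mem)))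
  have h7 : zpowers D.d ≤ R := by
    rw [← h6]
    rintro _ ⟨y, hy, rfl⟩
    exact ((mem_normalizer_iff.1 (hn hx)) y).1 (hQR hy)
  exact h7 (mem_zpowers _)

/-- the centralizer of the normal simple subgroup is trivial -/
theorem cent_bot (F : Facts G) {M R : Subgroup G} (hK : D.K ≤ M) (hRM : R ≤ M)
    (hn : M ≤ normalizer (R : Set G)) (h7 : 7 ∣ Nat.card R) : M ⊓ centralizer (R : Set G) = ⊥ := by
  have hd := D.d_mem_of F hK hRM hn h7
  have h1 : M ⊓ centralizer (R : Set G) ≤ centralizer (zpowers D.d : Set G) :=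
    inf_le_right.trans (centralizer_le (zpowers_le.2 hd))
  have h2 := Subgroup.card_dvd_of_le h1
  rw [D.card_cd F] at h2
  refine D.bot_of_dvd hK (M := M) ?_ (h2.trans (by norm_num))
  intro x hx
  rw [mem_normalizer_iff]
  have key : ∀ {x y : G}, x ∈ M → y ∈ M ⊓ centralizer (R : Set G) → x * y * x⁻¹ ∈ M ⊓ centralizer (R : Set G) := by
    intro x y hx hy
    refine ⟨M.mul_mem (M.mul_mem hx hy.1) (M.inv_mem hx), ?_⟩
    have hy2 : y ∈ centralizer (R : Set G) := hy.2
    refine (mem_centralizer_iff (s := (R : Set G))).2 fun r hr => ?_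
    have h3 : x⁻¹ * r * x ∈ R := by
      have := ((mem_normalizer_iff.1 (hn (M.inv_mem hx))) r).1 hr
      rwa [inv_inv] at this
    have h4 := (mem_centralizer_iff.1 hy2) _ h3
    calc r * (x * y * x⁻¹) = x * ((x⁻¹ * r * x) * y) * x⁻¹ := by group
      _ = x * (y * (x⁻¹ * r * x)) * x⁻¹ := by rw [h4]
      _ = x * y * x⁻¹ * r := by group
  intro y
  refine ⟨fun hy => key hx hy, fun hy => ?_⟩
  have h3 := key (M.inv_mem hx) hy
  have h4 : x⁻¹ * (x * y * x⁻¹) * x⁻¹⁻¹ = y := by group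
  rwa [h4] at h3

end Data

end Cfsg.Agent.H935.J4Max.M22Abs
end

-- part: H935/J4Max/M22Main
section
/-!
# The maximal subgroup `Aut(M₂₂)` of `J₄`: the conclusion from the data (helper935)
-/

set_option autoImplicit false

namespace Cfsg.Agent.H935.J4Max.M22Main

open Cfsg Subgroup
open Cfsg.Agent.OrdDiv
open Cfsg.Agent.H866.J4Ord Cfsg.Agent.H866.J4Min Cfsg.Agent.H866.OddTools Cfsg.Agent.H866.J4Odd
open Cfsg.Agent.OddOrderLocal.SylIn
open Cfsg.Agent.H935.J4Max.M22Abs
open Cfsg.Agent.SporadicA.GolayBase Cfsg.Agent.SporadicA.GolayPerm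
open Cfsg.Agent.SporadicStructure.M24El

universe u

theorem names22 : ∀ x ∈ names, x.2 = 443520 → x.1 = .m22 := by decide +kernel
theorem names23 : ∀ x ∈ names, x.2 = 10200960 → x.1 = .m23 := by decide +kernel
theorem names24 : ∀ x ∈ names, x.2 = 244823040 → x.1 = .m24 := by decide +kernel

theorem card_mulAut_congr {A B : Type*} [Group A] [Group B] (e : A ≃* B) :
    Nat.card (MulAut A) = Nat.card (MulAut B) := Nat.card_congr (MulAut.congr e).toEquiv

/-- commuting elements of orders 7 and 3 of `M24` -/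
theorem exists_comm : ∃ a b : M24, orderOf a = 7 ∧ orderOf b = 3 ∧ b * a = a * b := by
  have h7 : orderOf (SporadicStructure.M24El.el H865.Seven.P7) = 7 := by
    have : Fact (Nat.Prime 7) := ⟨by norm_num⟩
    refine orderOf_eq_prime ?_ fun h => ?_
    · have ok := H865.Seven.ok7
      have ok2 := ok_pcomp ok ok
      have ok4 := ok_pcomp ok2 ok2
      have ok3 := ok_pcomp ok2 ok
      have h1 : pcomp (pcomp (pcomp H865.Seven.P7 H865.Seven.P7) (pcomp H865.Seven.P7 H865.Seven.P7))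
        (pcomp (pcomp H865.Seven.P7 H865.Seven.P7) H865.Seven.P7) = idP := by decide +kernel
      rw [← el_idP, ← h1, el_pcomp ok4 ok3, el_pcomp ok2 ok2, el_pcomp ok2 ok, el_pcomp ok ok]
      simp only [pow_succ, pow_zero, one_mul, mul_assoc]
    · have h1 := H865.Seven.s_a7_zero
      rw [h, one_smul] at h1
      exact absurd (H865.Seven.a7_injective h1) (by decide)
  have h42 := H865.Seven.card_centralizer
  have : Fact (Nat.Prime 3) := ⟨by norm_num⟩
  obtain ⟨b, hb⟩ := exists_prime_orderOf_dvd_card' (G := centralizer (zpowers (SporadicStructure.M24El.el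
    H865.Seven.P7) : Set M24)) 3 (by rw [h42]; norm_num)
  refine ⟨_, b, h7, by rw [← hb, Subgroup.orderOf_coe], ?_⟩
  exact ((mem_centralizer_iff.1 b.2) _ (mem_zpowers _)).symm

variable {G : Type u} [Group G] [Finite G]

/-- **the maximal subgroup `Aut(M₂₂)`** -/
theorem main (F : Facts G) (D : Data G) : ∃ M : Subgroup G, IsCoatom M ∧ Nonempty (M ≃* MulAut Spor.M22) := by
  obtain ⟨M, hM, hKM⟩ := (eq_top_or_exists_le_coatom D.K).resolve_left D.ne_top
  refine ⟨M, hM, ?_⟩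
  have hMb : M ≠ ⊥ := by
    rintro rfl
    have h1 := mem_bot.1 (hKM D.d_mem)
    have h2 := D.order_d
    rw [h1, orderOf_one] at h2
    norm_num at h2
  obtain ⟨R, hRM, hR, hn, -, h⟩ := exists_min F.tab F.known (F.card ▸ dvd_rfl) M hMb
  rcases h with ⟨r, hr, h⟩ | ⟨hs, hna, hc⟩
  · exact (D.not_elem F hKM hn hR hr h).elim
  have hcard := D.card_simple F hKM hM.1 hRM hn hR hc
  have h7 : 7 ∣ Nat.card R := by rcases hcard with h | h | h <;> rw [h] <;> norm_num
  have hcent := D.cent_bot F hKM hRM hn h7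
  let φ : M →* MulAut R := R.normalizerMonoidHom.comp (inclusion hn)
  have hφ : Function.Injective φ := by
    rw [injective_iff_map_eq_one]
    intro x hx
    have h1 : (x : G) ∈ M ⊓ centralizer (R : Set G) := by
      refine ⟨x.2, ?_⟩
      refine (mem_centralizer_iff (s := (R : Set G))).2 fun r hr => ?_
      have h2 : ((φ x) ⟨r, hr⟩ : G) = r := by rw [hx]; rfl
      have h3 : (x : G) * r * (x : G)⁻¹ = r := h2
      exact (mul_inv_eq_iff_eq_mul.1 h3).symm
    rw [hcent, mem_bot] at h1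
    exact Subtype.ext h1
  have h8 : 2 ^ 8 ∣ Nat.card M := D.sylow.trans (Subgroup.card_dvd_of_le hKM)
  have hRM2 : Nat.card R ∣ Nat.card M := Subgroup.card_dvd_of_le hRM
  have hdvd : Nat.card M ∣ Nat.card (MulAut R) := Subgroup.card_dvd_of_injective φ hφ
  obtain ⟨x, hx, hreal, hxc⟩ := exists_name F.tab (F.known R) hna (F.dvd R)
  rcases hcard with h | h | h
  · have hx2 := names22 x hx (by rw [← hxc, h])
    rw [hx2] at hreal
    obtain ⟨e⟩ := (show Nonempty (R ≃* Spor.M22) from hreal)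
    have h1 : Nat.card (MulAut R) = 887040 :=
      (card_mulAut_congr e).trans Cfsg.Agent.Omega.TwoF.RowM23.card_mulAut22
    have h2 : Nat.card M = 887040 := by
      rw [h1] at hdvd
      rw [h] at hRM2
      obtain ⟨c, hc⟩ := hRM2
      rw [hc] at hdvd h8 ⊢
      rw [show 887040 = 443520 * 2 by norm_num] at hdvd
      have h3 := Nat.dvd_of_mul_dvd_mul_left (by norm_num) hdvd
      rcases (Nat.dvd_prime Nat.prime_two).1 h3 with rfl | rfl
      · norm_num at h8
      · norm_num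
    have hb : Function.Bijective φ := by
      have : Finite (MulAut R) := Nat.finite_of_card_ne_zero (by rw [h1]; norm_num)
      exact (Nat.bijective_iff_injective_and_card φ).2 ⟨hφ, by rw [h1, h2]⟩
    exact ⟨(MulEquiv.ofBijective φ hb).trans (MulAut.congr e)⟩
  · exfalso
    have hx2 := names23 x hx (by rw [← hxc, h])
    rw [hx2] at hreal
    obtain ⟨e⟩ := (show Nonempty (R ≃* Spor.M23) from hreal)
    have h1 : Nat.card (MulAut R) = 10200960 :=
      (card_mulAut_congr e).trans (Cfsg.Agent.Omega.TwoF.RowM23.card_mulAut23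
        Cfsg.Agent.Omega.TwoF.RowM23.center23)
    have h2 := h8.trans (h1 ▸ hdvd)
    norm_num at h2
  · exfalso
    have hx2 := names24 x hx (by rw [← hxc, h])
    rw [hx2] at hreal
    obtain ⟨e⟩ := (show Nonempty (R ≃* M24) from hreal)
    have h1 : Nat.card (MulAut R) = 244823040 :=
      (card_mulAut_congr e).trans Cfsg.Agent.Omega.TwoF.RowM24.card_mulAut
    have h2 : Nat.card M = 244823040 := Nat.dvd_antisymm (h1 ▸ hdvd) (h ▸ hRM2)
    have h3 : R = M := Subgroup.eq_of_le_of_card_ge hRM (by rw [h2, h])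
    subst h3
    obtain ⟨a, b, ha, hb, hab⟩ := exists_comm
    -- an element of order three commuting with `d`
    have ha1 : orderOf ((e.symm a : R) : G) = 7 := by rw [Subgroup.orderOf_coe, MulEquiv.orderOf_eq, ha]
    have hb1 : orderOf ((e.symm b : R) : G) = 3 := by rw [Subgroup.orderOf_coe, MulEquiv.orderOf_eq, hb]
    have hab1 : ((e.symm b : R) : G) * ((e.symm a : R) : G) = ((e.symm a : R) : G) * ((e.symm b : R) : G) := by
      rw [← Subgroup.coe_mul, ← Subgroup.coe_mul, ← map_mul, ← map_mul, hab]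
    set a' := ((e.symm a : R) : G) with ha'
    set b' := ((e.symm b : R) : G) with hb'
    have haR : a' ∈ R := (e.symm a).2
    have hbR : b' ∈ R := (e.symm b).2
    obtain ⟨g, hg, h6⟩ := (Data.isSyl_of_seven F (by rw [Nat.card_zpowers, ha1]) (zpowers_le.2 haR)).exists_conj
      (Data.isSyl_of_seven F D.card_zd (zpowers_le.2 (hKM D.d_mem)))
    have h5 : D.d ∈ (zpowers a').map (MulAut.conj g).toMonoidHom := by
      rw [h6]; exact mem_zpowers _
    obtain ⟨y, hy, hyd⟩ := h5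
    have hyd' : g * y * g⁻¹ = D.d := hyd
    have hby : b' * y = y * b' := by
      obtain ⟨n, rfl⟩ := hy
      exact ((show Commute b' a' from hab1).zpow_right n).eq
    have hcd : (g * b' * g⁻¹) * D.d = D.d * (g * b' * g⁻¹) := by
      rw [← hyd']
      calc g * b' * g⁻¹ * (g * y * g⁻¹) = g * (b' * y) * g⁻¹ := by group
        _ = g * (y * b') * g⁻¹ := by rw [hby]
        _ = g * y * g⁻¹ * (g * b' * g⁻¹) := by group
    have hord : orderOf (g * b' * g⁻¹) = 3 := by
      have := (MulAut.conj g).orderOf_eq b'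
      rw [MulAut.conj_apply] at this
      rw [this, hb1]
    obtain ⟨w, hw, hwo⟩ := D.three _ hcd hord
    have hwR : w ∈ R := by
      have h10 : D.K ⊔ zpowers (g * b' * g⁻¹) ≤ R :=
        sup_le hKM (zpowers_le.2 (R.mul_mem (R.mul_mem hg hbR) (R.inv_mem hg)))
      exact h10 hw
    have h9 : orderOf w ∣ Nat.card R := by
      rw [← Subgroup.orderOf_mk w hwR]
      exact orderOf_dvd_natCard _
    rw [h] at h9
    simp only [List.mem_cons, List.not_mem_nil, or_false] at hwo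
    rcases hwo with h10 | h10 | h10 | h10 <;> rw [h10] at h9 <;> norm_num at h9

end Cfsg.Agent.H935.J4Max.M22Main
end

-- part: H935/J4Max/M22Data
section
/-!
# Words for `Aut(M₂₂)` in `J₄`: kernel checks (helper935)

Generated. `ws` computes elements `d` (order 7), `s`, `k` generating `Aut(M₂₂)`, elements `r, v1, v3` generating the
factor `S₅` of `C(d) = 7 × S₅`, and others; `wsA` lists this `S₅`, `wsP` lists a subgroup of order 256 of
`⟨d, s, k⟩`.
-/

set_option autoImplicit false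
set_option Elab.async false

namespace Cfsg.Agent.H935.J4Max.M22Data

open Cfsg.Agent.Lib Cfsg.Agent.Lib.F2MatGroup Cfsg.Agent.J4.Rep112 Cfsg.Agent.H935.J4Max.Eval
open Cfsg.Agent.H935.J4Max.ListCl

/-- the program; results: p3 = 0, p2 = 1, p1 = 2, p0 = 3, f = 4, B2 = 5, B1 = 6, b2 = 7, b1 = 8, k = 9, s = 10, r = 11, v3 = 12, v1 = 13, c2 = 14, c = 15, c0 = 16, D = 17, d = 18 -/
def ws : List (List ℕ) := [[0, 1, 0, 1, 0, 1, 0, 1, 0, 1, 0, 2, 0, 1, 0, 2, 0, 2, 0, 2], [0, 0, 0, 0, 0, 0], [3, 2,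
  3, 2, 4, 2, 4, 2, 4, 2, 4, 5, 3, 2, 3, 2, 3, 2, 3, 2, 4, 2], [0, 0, 0], [0, 4, 6, 4, 6, 4, 0, 4, 5, 4, 5, 4], [5,
  7, 0, 6, 5], [6, 7, 6, 8, 6, 1, 6, 7, 6, 8, 6], [8, 7, 9, 7, 9, 7, 8, 7, 9, 7, 8, 7, 9, 7, 9, 7, 9, 7, 9, 7, 8, 7,
  8, 10, 9, 7, 9, 7, 8, 7, 8, 7, 8, 7, 8, 7, 9, 7, 8, 7, 9, 7, 8, 7, 8, 7, 9], [10, 11, 8, 10, 11, 10, 11, 8, 9, 8,
  9, 8, 10, 11, 8, 9, 11, 9, 11, 9, 8, 10, 11, 9, 8, 10, 11, 10, 11, 10, 8, 11, 9, 8, 10, 8, 10, 8, 11, 9, 11, 9, 8,
  11, 9], [1, 3, 1, 3, 1], [9, 9, 1, 8, 1], [10, 2, 9, 9, 2], [1, 1, 1, 1, 1, 1, 1, 1, 1, 1], [1, 1, 1, 1, 1, 1, 1,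
  1, 1, 1], [13, 13, 13, 5], [6, 13, 6, 13, 5, 13, 6, 14, 5, 14, 6, 14, 6, 13, 6, 13, 5, 13], [6, 7, 6, 7, 6], [16,
  8, 15, 8, 16, 8, 15, 8, 16, 8, 15], [8, 9, 16, 8, 9, 8, 17, 9, 8, 9, 8, 9, 16, 8]]

def es : List (List ℕ × List ℕ) := [([18, 18, 18, 18, 18, 18, 18], []), ([10, 10], []), ([11, 18], [18, 11]), ([13,
  18], [18, 13]), ([12, 18], [18, 12]), ([8, 8, 8, 8, 8, 8, 8, 8, 8, 8, 8], []), ([7, 7, 7, 7, 7, 7, 7, 7, 7, 7, 7],
  []), ([4, 4, 4, 4, 4], []), ([18], [5, 8, 8, 7, 6, 5, 5, 8, 8]), ([10], [8, 8, 5, 5, 8, 8, 5, 5, 8, 8]), ([17],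
  [18, 18, 18, 18, 18, 18]), ([8], [18, 18, 10, 17, 10]), ([7], [18, 10, 17, 17, 10]), ([6], [8, 8, 8, 8, 8, 8, 8,
  8, 8, 8]), ([5], [7, 7, 7, 7, 7, 7, 7, 7, 7, 7]), ([4], [18, 18, 18, 10]), ([3], [10, 17, 10, 17, 9, 17, 10, 18,
  9, 18, 10, 18, 10, 17, 10, 17, 9, 17]), ([2], [9, 10, 9, 10, 9]), ([1], [18, 10, 17, 10, 18, 10, 17, 10, 18, 10,
  17]), ([0], [9, 10, 17, 9, 10, 9, 18, 10, 9, 10, 9, 10, 17, 9])]

def ns : List (List ℕ × List ℕ) := [([18], []), ([8], []), ([7], []), ([4], []), ([18, 10], [10, 18])]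

private noncomputable def _root_.Cfsg.Agent.KO1e989cd.k0.{ku0} : (by first | exact type_of% @Cfsg.Agent.Lib.F2Mat.force.{ku0} | exact Unit : Sort _) := by first | (refine @Subtype.val _ (fun g => @Cfsg.Agent.Lib.F2Mat.force.{ku0} = @g) (@Subtype.mk _ _ (@(fun (x0 : Sort ku0) (x1 : @Nat) (x2 : (@Nat → x0)) => @Nat.rec.{ku0} @(fun (x3 : @Nat) => x0) (@x2 (nat_lit 0)) @(fun (x3 : @Nat) (x4 : x0) => @x2 (@Nat.succ @x3)) @x1)) ?_); rfl') | exact @Cfsg.Agent.Lib.F2Mat.force.{ku0} | exact ()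
private theorem _root_.Cfsg.Agent.KO1e989cd.e0.{ku0} : (by first | exact @Cfsg.Agent.Lib.F2Mat.force.{ku0} = @_root_.Cfsg.Agent.KO1e989cd.k0.{ku0} | exact True : Prop) := by first | (delta _root_.Cfsg.Agent.KO1e989cd.k0; exact @Subtype.property _ (fun g => @Cfsg.Agent.Lib.F2Mat.force.{ku0} = @g) _) | rfl | trivial
private noncomputable def _root_.Cfsg.Agent.KO1e989cd.k1 : (by first | exact type_of% @Cfsg.Agent.Lib.F2Mat.one | exact Unit : Sort _) := by first | (refine @Subtype.val _ (fun g => @Cfsg.Agent.Lib.F2Mat.one = @g) (@Subtype.mk _ _ (@(fun (x0 : @Nat) => @Nat.div (@Nat.sub (@Nat.pow (nat_lit 2) (@Nat.mul (@Nat.succ @x0) @x0)) (nat_lit 1)) (@Nat.sub (@Nat.pow (nat_lit 2) (@Nat.succ @x0)) (nat_lit 1)))) ?_); rfl') | exact @Cfsg.Agent.Lib.F2Mat.one | exact ()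
private theorem _root_.Cfsg.Agent.KO1e989cd.e1 : (by first | exact @Cfsg.Agent.Lib.F2Mat.one = @_root_.Cfsg.Agent.KO1e989cd.k1 | exact True : Prop) := by first | (delta _root_.Cfsg.Agent.KO1e989cd.k1; exact @Subtype.property _ (fun g => @Cfsg.Agent.Lib.F2Mat.one = @g) _) | rfl | trivial
private noncomputable def _root_.Cfsg.Agent.KO1e989cd.k2 : (by first | exact type_of% @Cfsg.Agent.Lib.F2Mat.msk | exact Unit : Sort _) := by first | (refine @Subtype.val _ (fun g => @Cfsg.Agent.Lib.F2Mat.msk = @g) (@Subtype.mk _ _ (@(fun (x0 : @Nat) => @Nat.div (@Nat.sub (@Nat.pow (nat_lit 2) (@Nat.mul @x0 @x0)) (nat_lit 1)) (@Nat.sub (@Nat.pow (nat_lit 2) @x0) (nat_lit 1)))) ?_); rfl') | exact @Cfsg.Agent.Lib.F2Mat.msk | exact ()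
private theorem _root_.Cfsg.Agent.KO1e989cd.e2 : (by first | exact @Cfsg.Agent.Lib.F2Mat.msk = @_root_.Cfsg.Agent.KO1e989cd.k2 | exact True : Prop) := by first | (delta _root_.Cfsg.Agent.KO1e989cd.k2; exact @Subtype.property _ (fun g => @Cfsg.Agent.Lib.F2Mat.msk = @g) _) | rfl | trivial
private noncomputable def _root_.Cfsg.Agent.KO1e989cd.k3 : (by first | exact type_of% @Cfsg.Agent.Lib.F2Mat.term | exact Unit : Sort _) := by first | (refine @Subtype.val _ (fun g => @Cfsg.Agent.Lib.F2Mat.term = @g) (@Subtype.mk _ _ (@(fun (x0 : @Nat) (x1 : @Nat) (x2 : @Nat) (x3 : @Nat) (x4 : @Nat) => @Nat.mul (@Nat.land (@Nat.shiftRight @x2 @x4) @x1) (@Nat.mod (@Nat.shiftRight @x3 (@Nat.mul @x0 @x4)) (@Nat.pow (nat_lit 2) @x0)))) ?_); rfl') | exact @Cfsg.Agent.Lib.F2Mat.term | exact ()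
private theorem _root_.Cfsg.Agent.KO1e989cd.e3 : (by first | exact @Cfsg.Agent.Lib.F2Mat.term = @_root_.Cfsg.Agent.KO1e989cd.k3 | exact True : Prop) := by first | (delta _root_.Cfsg.Agent.KO1e989cd.k3; exact @Subtype.property _ (fun g => @Cfsg.Agent.Lib.F2Mat.term = @g) _) | rfl | trivial
private noncomputable def _root_.Cfsg.Agent.KO1e989cd.k4 : (by first | exact type_of% @Cfsg.Agent.Lib.F2Mat.mulAux | exact Unit : Sort _) := by first | (refine @Subtype.val _ (fun g => @Cfsg.Agent.Lib.F2Mat.mulAux = @g) (@Subtype.mk _ _ (@(fun (x0 : @Nat) (x1 : @Nat) (x2 : @Nat) (x3 : @Nat) (x4 : @Nat) => @Nat.rec.{1} @(fun (x5 : @Nat) => @Nat) (nat_lit 0) @(fun (x5 : @Nat) (x6 : @Nat) => @Nat.xor @x6 (@Cfsg.Agent.KO1e989cd.k3 @x0 @x1 @x2 @x3 @x5)) @x4)) ?_); rewrite [← Cfsg.Agent.KO1e989cd.e3]; (try delta Cfsg.Agent.Lib.F2Mat.mulAux); (try generalize @Cfsg.Agent.Lib.F2Mat.term = g0); rfl') | exact @Cfsg.Agent.Lib.F2Mat.mulAux | exact ()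
private theorem _root_.Cfsg.Agent.KO1e989cd.e4 : (by first | exact @Cfsg.Agent.Lib.F2Mat.mulAux = @_root_.Cfsg.Agent.KO1e989cd.k4 | exact True : Prop) := by first | (delta _root_.Cfsg.Agent.KO1e989cd.k4; exact @Subtype.property _ (fun g => @Cfsg.Agent.Lib.F2Mat.mulAux = @g) _) | rfl | trivial
private noncomputable def _root_.Cfsg.Agent.KO1e989cd.k5 : (by first | exact type_of% @Cfsg.Agent.Lib.F2Mat.mul | exact Unit : Sort _) := by first | (refine @Subtype.val _ (fun g => @Cfsg.Agent.Lib.F2Mat.mul = @g) (@Subtype.mk _ _ (@(fun (x0 : @Nat) (x1 : @Nat) (x2 : @Nat) => @Cfsg.Agent.KO1e989cd.k0.{1} @Nat @x1 @(fun (x3 : @Nat) => @Cfsg.Agent.KO1e989cd.k0.{1} @Nat @x2 @(fun (x4 : @Nat) => @Cfsg.Agent.KO1e989cd.k0.{1} @Nat (@Cfsg.Agent.KO1e989cd.k2 @x0) @(fun (x5 : @Nat) => @Cfsg.Agent.KO1e989cd.k4 @x0 @x5 @x3 @x4 @x0))))) ?_); rewrite [← Cfsg.Agent.KO1e989cd.e0.{1}, ← Cfsg.Agent.KO1e989cd.e2, ← Cfsg.Agent.KO1e989cd.e4]; (try delta Cfsg.Agent.Lib.F2Mat.mul);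 (try generalize @Cfsg.Agent.Lib.F2Mat.force.{1} = g0); (try generalize @Cfsg.Agent.Lib.F2Mat.msk = g1); (try generalize @Cfsg.Agent.Lib.F2Mat.mulAux = g2); rfl') | exact @Cfsg.Agent.Lib.F2Mat.mul | exact ()
private theorem _root_.Cfsg.Agent.KO1e989cd.e5 : (by first | exact @Cfsg.Agent.Lib.F2Mat.mul = @_root_.Cfsg.Agent.KO1e989cd.k5 | exact True : Prop) := by first | (delta _root_.Cfsg.Agent.KO1e989cd.k5; exact @Subtype.property _ (fun g => @Cfsg.Agent.Lib.F2Mat.mul = @g) _) | rfl | trivial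
private noncomputable def _root_.Cfsg.Agent.KO1e989cd.k6 : (by first | exact type_of% @Cfsg.Agent.Lib.F2MatGroup.evW | exact Unit : Sort _) := by first | (refine @Subtype.val _ (fun g => @Cfsg.Agent.Lib.F2MatGroup.evW = @g) (@Subtype.mk _ _ (@(fun (x0 : @Nat) (x1 : @List.{0} @Nat) (x2 : @List.{0} @Nat) => @List.rec.{1, 0} @Nat @(fun (x3 : @List.{0} @Nat) => @Nat) (@Cfsg.Agent.KO1e989cd.k1 @x0) @(fun (x3 : @Nat) (x4 : @List.{0} @Nat) (x5 : @Nat) => @Cfsg.Agent.KO1e989cd.k5 @x0 (@Cfsg.Agent.Lib.F2MatGroup.get (@Cfsg.Agent.KO1e989cd.k1 @x0) @x1 @x3) @x5) @x2)) ?_); rewrite [← Cfsg.Agent.KO1e989cd.e1, ← Cfsg.Agent.KO1e989cd.e5]; (try delta Cfsg.Agent.Lib.F2MatGroup.evW); (try generalize @Cfsg.Agent.Lib.F2Mat.one = g0); (try generalize @Cfsg.Agent.Lib.F2Mat.mul = g1); (try generalize @Cfsg.Agent.Lib.F2MatGroup.get = g2); rfl') | exact @Cfsg.Agent.Lib.F2MatGroup.evW | exact ()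
private theorem _root_.Cfsg.Agent.KO1e989cd.e6 : (by first | exact @Cfsg.Agent.Lib.F2MatGroup.evW = @_root_.Cfsg.Agent.KO1e989cd.k6 | exact True : Prop) := by first | (delta _root_.Cfsg.Agent.KO1e989cd.k6; exact @Subtype.property _ (fun g => @Cfsg.Agent.Lib.F2MatGroup.evW = @g) _) | rfl | trivial
private noncomputable def _root_.Cfsg.Agent.KO1e989cd.k7 : (by first | exact type_of% @Cfsg.Agent.Lib.F2MatGroup.run | exact Unit : Sort _) := by first | (refine @Subtype.val _ (fun g => @Cfsg.Agent.Lib.F2MatGroup.run = @g) (@Subtype.mk _ _ (@(fun (x0 : @Nat) (x1 : @List.{0} (@List.{0} @Nat)) (x2 : @List.{0} @Nat) (x3 : ((@List.{0} @Nat) → @Bool)) => @List.rec.{1, 0} (@List.{0} @Nat) @(fun (x4 : @List.{0} (@List.{0} @Nat)) => ((@List.{0} @Nat) → @Bool)) @x3 @(fun (x4 : @List.{0} @Nat) (x5 : @List.{0} (@List.{0} @Nat)) (x6 : ((@List.{0} @Nat) → @Bool)) (x7 : @List.{0} @Nat) => @Cfsg.Agent.KO1e989cd.k0.{1} @Bool (@Cfsg.Agent.KO1e989cd.k6 @x0 @x7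 @x4) @(fun (x8 : @Nat) => @x6 (@List.cons.{0} @Nat @x8 @x7))) @x1 @x2)) ?_); rewrite [← Cfsg.Agent.KO1e989cd.e0.{1}, ← Cfsg.Agent.KO1e989cd.e6]; (try delta Cfsg.Agent.Lib.F2MatGroup.run); (try generalize @Cfsg.Agent.Lib.F2Mat.force.{1} = g0); (try generalize @Cfsg.Agent.Lib.F2MatGroup.evW = g1); rfl') | exact @Cfsg.Agent.Lib.F2MatGroup.run | exact ()
private theorem _root_.Cfsg.Agent.KO1e989cd.e7 : (by first | exact @Cfsg.Agent.Lib.F2MatGroup.run = @_root_.Cfsg.Agent.KO1e989cd.k7 | exact True : Prop) := by first | (delta _root_.Cfsg.Agent.KO1e989cd.k7; exact @Subtype.property _ (fun g => @Cfsg.Agent.Lib.F2MatGroup.run = @g) _) | rfl | trivial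
private noncomputable def _root_.Cfsg.Agent.KO1e989cd.k8 : (by first | exact type_of% @Cfsg.Agent.Lib.F2MatGroup.neqs | exact Unit : Sort _) := by first | (refine @Subtype.val _ (fun g => @Cfsg.Agent.Lib.F2MatGroup.neqs = @g) (@Subtype.mk _ _ (@(fun (x0 : @Nat) (x1 : @List.{0} (@Prod.{0, 0} (@List.{0} @Nat) (@List.{0} @Nat))) (x2 : @List.{0} @Nat) => @List.rec.{1, 0} (@Prod.{0, 0} (@List.{0} @Nat) (@List.{0} @Nat)) @(fun (x3 : @List.{0} (@Prod.{0, 0} (@List.{0} @Nat) (@List.{0} @Nat))) => @Bool) @Bool.true @(fun (x3 : @Prod.{0, 0} (@List.{0} @Nat) (@List.{0} @Nat)) (x4 : @List.{0} (@Prod.{0, 0} (@List.{0} @Nat) (@List.{0} @Nat))) (x5 : @Bool) => @Bool.rec.{1} @(fun (x6 : @Bool) => @Bool) @x5 @Bool.false (@Nat.beq (@Cfsg.Agent.KO1e989cd.k6 @x0 @x2 (@Prod.fst.{0, 0} (@List.{0} @Nat) (@List.{0} @Nat) @x3)) (@Cfsg.Agent.KO1e989cd.k6 @x0 @x2 (@Prod.snd.{0, 0} (@List.{0} @Nat) (@List.{0} @Nat) @x3)))) @x1)) ?_); rewrite [← Cfsg.Agent.KO1e989cd.e6];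 (try delta Cfsg.Agent.Lib.F2MatGroup.neqs); (try generalize @Cfsg.Agent.Lib.F2MatGroup.evW = g0); rfl') | exact @Cfsg.Agent.Lib.F2MatGroup.neqs | exact ()
private theorem _root_.Cfsg.Agent.KO1e989cd.e8 : (by first | exact @Cfsg.Agent.Lib.F2MatGroup.neqs = @_root_.Cfsg.Agent.KO1e989cd.k8 | exact True : Prop) := by first | (delta _root_.Cfsg.Agent.KO1e989cd.k8; exact @Subtype.property _ (fun g => @Cfsg.Agent.Lib.F2MatGroup.neqs = @g) _) | rfl | trivial
private noncomputable def _root_.Cfsg.Agent.KO1e989cd.k9 : (by first | exact type_of% @Cfsg.Agent.Lib.F2MatGroup.eqs | exact Unit : Sort _) := by first | (refine @Subtype.val _ (fun g => @Cfsg.Agent.Lib.F2MatGroup.eqs = @g) (@Subtype.mk _ _ (@(fun (x0 : @Nat) (x1 : @List.{0} (@Prod.{0, 0} (@List.{0} @Nat) (@List.{0} @Nat))) (x2 : @List.{0} @Nat) => @List.rec.{1, 0} (@Prod.{0, 0} (@List.{0} @Nat) (@List.{0} @Nat)) @(fun (x3 : @List.{0} (@Prod.{0, 0} (@List.{0} @Nat) (@List.{0} @Nat))) => @Bool)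 @Bool.true @(fun (x3 : @Prod.{0, 0} (@List.{0} @Nat) (@List.{0} @Nat)) (x4 : @List.{0} (@Prod.{0, 0} (@List.{0} @Nat) (@List.{0} @Nat))) (x5 : @Bool) => @Bool.rec.{1} @(fun (x6 : @Bool) => @Bool) @Bool.false @x5 (@Nat.beq (@Cfsg.Agent.KO1e989cd.k6 @x0 @x2 (@Prod.fst.{0, 0} (@List.{0} @Nat) (@List.{0} @Nat) @x3)) (@Cfsg.Agent.KO1e989cd.k6 @x0 @x2 (@Prod.snd.{0, 0} (@List.{0} @Nat) (@List.{0} @Nat) @x3)))) @x1)) ?_); rewrite [← Cfsg.Agent.KO1e989cd.e6]; (try delta Cfsg.Agent.Lib.F2MatGroup.eqs); (try generalize @Cfsg.Agent.Lib.F2MatGroup.evW = g0); rfl') | exact @Cfsg.Agent.Lib.F2MatGroup.eqs | exact ()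
private theorem _root_.Cfsg.Agent.KO1e989cd.e9 : (by first | exact @Cfsg.Agent.Lib.F2MatGroup.eqs = @_root_.Cfsg.Agent.KO1e989cd.k9 | exact True : Prop) := by first | (delta _root_.Cfsg.Agent.KO1e989cd.k9; exact @Subtype.property _ (fun g => @Cfsg.Agent.Lib.F2MatGroup.eqs = @g) _) | rfl | trivial
private noncomputable def _root_.Cfsg.Agent.KO1e989cd.k10 : (by first | exact type_of% @Cfsg.Agent.Lib.F2MatGroup.check | exact Unit : Sort _) := by first | (refine @Subtype.val _ (fun g => @Cfsg.Agent.Lib.F2MatGroup.check = @g) (@Subtype.mk _ _ (@(fun (x0 : @Nat) (x1 : @List.{0} @Nat) (x2 : @List.{0} (@List.{0} @Nat)) (x3 : @List.{0} (@Prod.{0, 0} (@List.{0} @Nat) (@List.{0} @Nat))) (x4 : @List.{0} (@Prod.{0, 0} (@List.{0} @Nat) (@List.{0} @Nat))) => @Cfsg.Agent.KO1e989cd.k7 @x0 @x2 @x1 @(fun (x5 : @List.{0} @Nat) => @Bool.rec.{1} @(fun (x6 : @Bool) => @Bool) @Bool.false (@Cfsg.Agent.KO1e989cd.k8 @x0 @x4 @x5) (@Cfsg.Agent.KO1e989cd.k9 @x0 @x3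 @x5)))) ?_); rewrite [← Cfsg.Agent.KO1e989cd.e7, ← Cfsg.Agent.KO1e989cd.e8, ← Cfsg.Agent.KO1e989cd.e9]; (try delta Cfsg.Agent.Lib.F2MatGroup.check); (try generalize @Cfsg.Agent.Lib.F2MatGroup.run = g0); (try generalize @Cfsg.Agent.Lib.F2MatGroup.neqs = g1); (try generalize @Cfsg.Agent.Lib.F2MatGroup.eqs = g2); rfl') | exact @Cfsg.Agent.Lib.F2MatGroup.check | exact ()
private theorem _root_.Cfsg.Agent.KO1e989cd.e10 : (by first | exact @Cfsg.Agent.Lib.F2MatGroup.check = @_root_.Cfsg.Agent.KO1e989cd.k10 | exact True : Prop) := by first | (delta _root_.Cfsg.Agent.KO1e989cd.k10; exact @Subtype.property _ (fun g => @Cfsg.Agent.Lib.F2MatGroup.check = @g) _) | rfl | trivial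

theorem chk0 : check 112 codes ws es ns = true := by (first | (rewrite [Cfsg.Agent.KO1e989cd.e10]; decide +kernel) | decide +kernel)

/-- a vector fixed by `d, s, k` -/
def v : ℕ := 0x7ac13d2c5c7b57c6ac8841823024

theorem chkv : run 112 ws codes (invs v [([18], 1), ([10], 1), ([9], 1)]) = true := by decide +kernel

/-- a coordinate -/
def cc : ℕ := 2 ^ (112 * 0)

theorem chkn0 : Nat.beq (F2Mat.mul 112 v cc) 0 = true := by decide +kernel

theorem chkn1 : Nat.beq (F2Mat.mul 112 (F2Mat.mul 112 v Cfsg.Agent.J4.RepData.X) cc) 0 = false := by decide +kernel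

/-! ### The centralizer of `d` -/

def wsA : List (List ℕ) := [[], [0, 12], [1, 15], [2, 15], [2, 17], [3, 17], [3, 17], [4, 19], [4, 19], [4, 20], [5,
  22], [5, 22], [5, 25], [6, 25], [6, 25], [6, 28], [7, 28], [7, 30], [8, 30], [8, 30], [8, 33], [9, 33], [9, 33],
  [10, 35], [10, 35], [10, 38], [11, 38], [11, 38], [12, 40], [12, 40], [12, 41], [13, 43], [13, 43], [13, 46], [14,
  46], [14, 46], [15, 48], [15, 48], [15, 51], [16, 51], [16, 51], [16, 54], [17, 54], [17, 54], [18, 56], [18, 56],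
  [18, 59], [19, 59], [19, 59], [19, 62], [20, 62], [20, 64], [21, 64], [21, 64], [21, 67], [22, 67], [22, 67], [23,
  69], [23, 69], [23, 72], [24, 72], [24, 72], [24, 75], [25, 75], [25, 76], [25, 76], [25, 79], [26, 79], [26, 79],
  [27, 81], [27, 81], [27, 84], [28, 84], [28, 84], [28, 87], [29, 87], [29, 87], [30, 89], [30, 89], [30, 92], [31,
  92], [31, 92], [32, 94], [29, 95], [29, 96], [28, 97], [28, 97], [28, 100], [28, 100], [27, 102], [24, 102], [24,
  103], [24, 103], [24, 105], [24, 105], [23, 107], [23, 107], [23, 110], [24, 110], [24, 110], [25, 112], [23,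
  112], [23, 115], [23, 114], [24, 116], [23, 118], [22, 117], [22, 118], [22, 119], [22, 122], [23, 122], [23,
  122], [23, 123], [23, 124], [21, 127], [20, 128], [18, 128], [10, 130], [10, 131], [9, 131]]

/-- the indices of the generators -/
def gsA : List ℕ := [131, 133, 132]

/-- the table of products, row by row -/
def tA : List (List ℕ) := [[3, 9, 10], [4, 12, 6], [5, 13, 7], [0, 21, 22], [1, 25, 16], [2, 27, 18], [30, 11, 1],
  [31, 8, 2], [32, 7, 13], [28, 0, 33], [15, 33, 0], [34, 6, 12], [35, 1, 11], [36, 2, 8], [24, 38, 32], [10, 39,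
  40], [40, 23, 4], [22, 41, 30], [42, 20, 5], [29, 44, 45], [45, 18, 27], [26, 3, 46], [17, 46, 3], [47, 16, 25],
  [14, 47, 48], [50, 4, 23], [21, 36, 51], [52, 5, 20], [9, 52, 53], [19, 34, 54], [6, 58, 17], [7, 59, 60], [8, 61,
  14], [62, 10, 9], [11, 29, 63], [12, 64, 65], [13, 26, 66], [64, 69, 70], [70, 14, 61], [59, 15, 71], [16, 71,
  15], [72, 17, 58], [18, 72, 73], [73, 67, 68], [57, 19, 74], [20, 74, 19], [75, 22, 21], [23, 24, 76], [67, 76,
  24], [77, 56, 57], [25, 77, 78], [78, 66, 26], [27, 28, 79], [65, 79, 28], [80, 63, 29], [60, 80, 81], [69, 49,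
  82], [44, 82, 49], [83, 30, 41], [39, 31, 84], [55, 84, 31], [85, 32, 38], [33, 85, 86], [86, 54, 34], [37, 35,
  87], [53, 87, 35], [88, 51, 36], [48, 43, 89], [81, 89, 43], [56, 37, 90], [38, 90, 37], [91, 40, 39], [41, 42,
  92], [43, 92, 42], [93, 45, 44], [46, 93, 94], [94, 48, 47], [49, 50, 95], [51, 95, 50], [96, 53, 52], [54, 55,
  97], [68, 97, 55], [98, 57, 56], [58, 98, 99], [99, 60, 59], [61, 62, 100], [63, 100, 62], [101, 65, 64], [66,
  101, 102], [102, 68, 67], [103, 70, 69], [71, 103, 104], [104, 73, 72], [74, 75, 105], [76, 105, 75], [106, 78,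
  77], [79, 106, 107], [107, 81, 80], [82, 83, 108], [84, 108, 83], [109, 86, 85], [87, 88, 110], [89, 110, 88],
  [90, 91, 111], [92, 111, 91], [112, 94, 93], [95, 96, 113], [97, 113, 96], [114, 99, 98], [100, 114, 115], [115,
  102, 101], [116, 104, 103], [105, 116, 117], [117, 107, 106], [108, 109, 118], [110, 118, 109], [111, 112, 119],
  [113, 119, 112], [119, 115, 114], [118, 117, 116]]

/-- the parents -/
def pA : List (ℕ × ℕ) := [(10, 2), (12, 1), (13, 1), (22, 2), (25, 1), (27, 1), (30, 0), (31, 0), (32, 0), (33, 2),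
  (33, 1), (34, 0), (35, 0), (36, 0), (38, 1), (40, 2), (40, 0), (41, 1), (42, 0), (45, 2), (45, 0), (46, 2), (46,
  1), (47, 0), (48, 2), (50, 0), (51, 2), (52, 0), (53, 2), (54, 2), (58, 1), (60, 2), (61, 1), (62, 0), (63, 2),
  (65, 2), (66, 2), (70, 2), (70, 0), (71, 2), (71, 1), (72, 0), (73, 2), (73, 0), (74, 2), (74, 1), (75, 0), (76,
  2), (76, 1), (77, 0), (78, 2), (78, 0), (79, 2), (79, 1), (80, 0), (81, 2), (82, 2), (82, 1), (83, 0), (84, 2),
  (84, 1), (85, 0), (86, 2), (86, 0), (87, 2), (87, 1), (88, 0), (89, 2), (89, 1), (90, 2), (90, 1), (91, 0), (92,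
  2), (92, 1), (93, 0), (94, 2), (94, 0), (95, 2), (95, 1), (96, 0), (97, 2), (97, 1), (98, 0), (99, 2), (99, 0),
  (100, 2), (100, 1), (101, 0), (102, 2), (102, 0), (103, 0), (104, 2), (104, 0), (105, 2), (105, 1), (106, 0),
  (107, 2), (107, 0), (108, 2), (108, 1), (109, 0), (110, 2), (110, 1), (111, 2), (111, 1), (112, 0), (113, 2),
  (113, 1), (114, 0), (115, 2), (115, 0), (116, 0), (117, 2), (117, 0), (118, 2), (118, 1), (119, 2), (119, 1),
  (119, 0), (0, 0)]

/-- the orders -/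
def oA : List ℕ := [2, 3, 3, 2, 6, 6, 3, 3, 3, 4, 4, 3, 3, 3, 4, 5, 4, 4, 4, 2, 4, 5, 5, 4, 2, 4, 4, 4, 5, 4, 4, 4,
  4, 2, 4, 4, 4, 5, 4, 2, 3, 4, 3, 4, 5, 3, 3, 3, 5, 4, 3, 4, 3, 2, 4, 5, 2, 4, 6, 4, 4, 6, 3, 6, 4, 4, 6, 4, 2, 2,
  5, 5, 2, 5, 5, 2, 5, 5, 2, 5, 5, 2, 2, 5, 6, 5, 5, 6, 5, 2, 3, 6, 5, 6, 6, 5, 6, 3, 3, 5, 2, 5, 3, 2, 6, 6, 6, 2,
  2, 6, 2, 6, 2, 6, 6, 6, 2, 2, 2, 1]

def tab (t : List (List ℕ)) (i j : ℕ) : ℕ := (t.getD i []).getD j 0

/-- the relations for the table -/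
def esT (t : List (List ℕ)) (k : ℕ) (gs : List ℕ) : List (List ℕ × List ℕ) :=
  (List.range k).flatMap fun i => (List.range gs.length).map fun j => ([i, gs.getD j 0], [tab t i j])

/-- the check for the table and the parents -/
def okT (t : List (List ℕ)) (p : List (ℕ × ℕ)) (k l : ℕ) : Bool :=
  (List.range k).all fun i => ((List.range l).all fun j => Nat.blt (tab t i j) k) &&
    (Nat.beq i (k - 1) || (Nat.blt i (p.getD i (0, 0)).1 && Nat.blt (p.getD i (0, 0)).1 k &&
      Nat.blt (p.getD i (0, 0)).2 l && Nat.beq (tab t (p.getD i (0, 0)).1 (p.getD i (0, 0)).2) i))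

private theorem _root_.Cfsg.Agent.KO1e989cd.e12.{ku, kv} {α : Type kv} {M : List α → Sort ku} (φ : ∀ l, M l) {z : M List.nil} {s : ∀ a l, M l → M (List.cons a l)} (h0 : φ List.nil = z) (hs : ∀ a l, φ (List.cons a l) = s a l (φ l)) (l : List α) : φ l = @List.rec α M z s l := List.rec h0 (fun a l ih => (hs a l).trans (congrArg (s a l) ih)) l
private noncomputable def _root_.Cfsg.Agent.KO1e989cd.k13.{ku0} : ((x0 : Sort (ku0+1)) → ((@List.{ku0} @x0) → ((x0 → @Bool) → @Bool))) := @(fun (x0 : Sort (ku0+1)) (x1 : @List.{ku0} @x0) (x2 : (x0 → @Bool)) => @List.rec.{(ku0+1), ku0} @x0 @(fun (x3 : @List.{ku0} @x0) => ((x0 → @Bool) → @Bool)) @(fun (x3 : (x0 → @Bool)) => @Bool.true) @(fun (x3 : x0) (x4 : @List.{ku0} @x0) (x5 : ((x0 → @Bool) → @Bool)) (x6 : (x0 → @Bool)) => @Bool.rec.{1} @(fun (x7 : @Bool) => @Bool) @Bool.false (@x5 @x6) (@x6 @x3)) @x1 @x2)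
private theorem _root_.Cfsg.Agent.KO1e989cd.e13.{ku0} : @List.all.{ku0} = @_root_.Cfsg.Agent.KO1e989cd.k13.{ku0} := by delta _root_.Cfsg.Agent.KO1e989cd.k13; funext a0 a1 a2; refine (congrFun (_root_.Cfsg.Agent.KO1e989cd.e12 (fun a1 a2 => @List.all.{ku0} a0 a1 a2) ?_ (fun c0 c1 => ?_) a1) a2 :) <;> (rfl')
private theorem _root_.Cfsg.Agent.KO1e989cd.e14.{ku} {M : Nat → Sort ku} (φ : ∀ n, M n) {z : M Nat.zero} {s : ∀ n, M n → M (Nat.succ n)} (h0 : φ Nat.zero = z) (hs : ∀ n, φ (Nat.succ n) = s n (φ n)) (n : Nat) : φ n = @Nat.rec M z s n := Nat.rec h0 (fun n ih => (hs n).trans (congrArg (s n) ih)) n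
private noncomputable def _root_.Cfsg.Agent.KO1e989cd.k15 : (@Nat → ((@List.{0} @Nat) → @List.{0} @Nat)) := @(fun (x0 : @Nat) (x1 : @List.{0} @Nat) => @Nat.rec.{1} @(fun (x2 : @Nat) => ((@List.{0} @Nat) → @List.{0} @Nat)) @(fun (x2 : @List.{0} @Nat) => x2) @(fun (x2 : @Nat) (x3 : ((@List.{0} @Nat) → @List.{0} @Nat)) (x4 : @List.{0} @Nat) => @x3 (@List.cons.{0} @Nat @x2 @x4)) @x0 @x1)
private theorem _root_.Cfsg.Agent.KO1e989cd.e15 : @List.range.loop = @_root_.Cfsg.Agent.KO1e989cd.k15 := by delta _root_.Cfsg.Agent.KO1e989cd.k15; funext a0 a1; refine (congrFun (_root_.Cfsg.Agent.KO1e989cd.e14 (fun a0 a1 => @List.range.loop a0 a1) ?_ (fun c0 => ?_) a0) a1 :) <;> (rfl')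
private noncomputable def _root_.Cfsg.Agent.KO1e989cd.k17.{ku0} : ((x0 : Sort (ku0+1)) → ((@List.{ku0} @x0) → (@Nat → @Option.{ku0} @x0))) := @(fun (x0 : Sort (ku0+1)) (x1 : @List.{ku0} @x0) (x2 : @Nat) => @List.rec.{(ku0+1), ku0} @x0 @(fun (x3 : @List.{ku0} @x0) => (@Nat → @Option.{ku0} @x0)) @(fun (x3 : @Nat) => @Option.none.{ku0} @x0) @(fun (x3 : x0) (x4 : @List.{ku0} @x0) (x5 : (@Nat → @Option.{ku0} @x0)) (x6 : @Nat) => @Nat.rec.{(ku0+1)} @(fun (x7 : @Nat) => @Option.{ku0} @x0) (@Option.some.{ku0} @x0 @x3) @(fun (x7 : @Nat) (x8 : @Option.{ku0} @x0) => @x5 @x7) @x6) @x1 @x2)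
private theorem _root_.Cfsg.Agent.KO1e989cd.e17.{ku0} : @List.get?Internal.{ku0} = @_root_.Cfsg.Agent.KO1e989cd.k17.{ku0} := by delta _root_.Cfsg.Agent.KO1e989cd.k17; funext a0 a1 a2; refine (congrFun (_root_.Cfsg.Agent.KO1e989cd.e12 (fun a1 a2 => @List.get?Internal.{ku0} a0 a1 a2) ?_ (fun c0 c1 => ?_) a1) a2 :) <;> [(funext b0; (rfl')); (funext b0; (cases b0 with | @zero  => (rfl') | @succ b0_0 => (rfl')))]
private noncomputable def _root_.Cfsg.Agent.KO1e989cd.k18 : (by first | exact type_of% @Cfsg.Agent.H935.J4Max.M22Data.okT | exact Unit : Sort _) := by first | (refine @Subtype.val _ (fun g => @Cfsg.Agent.H935.J4Max.M22Data.okT = @g) (@Subtype.mk _ _ (@(fun (x0 : @List.{0} (@List.{0} @Nat)) (x1 : @List.{0} (@Prod.{0, 0} @Nat @Nat)) (x2 : @Nat) (x3 : @Nat) => @Cfsg.Agent.KO1e989cd.k13.{0} @Nat (@Cfsg.Agent.KO1e989cd.k15 @x2 (@List.nil.{0} @Nat)) @(fun (x4 : @Nat) => @Bool.rec.{1} @(fun (x5 : @Bool) => @Bool) @Bool.false (@Bool.rec.{1}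 @(fun (x5 : @Bool) => @Bool) (@Bool.rec.{1} @(fun (x5 : @Bool) => @Bool) @Bool.false (@Nat.beq (@Option.rec.{1, 0} @Nat @(fun (x5 : @Option.{0} @Nat) => @Nat) (nat_lit 0) @(fun (x5 : @Nat) => x5) (@Cfsg.Agent.KO1e989cd.k17.{0} @Nat (@Option.rec.{1, 0} (@List.{0} @Nat) @(fun (x5 : @Option.{0} (@List.{0} @Nat)) => @List.{0} @Nat) (@List.nil.{0} @Nat) @(fun (x5 : @List.{0} @Nat) => x5) (@Cfsg.Agent.KO1e989cd.k17.{0} (@List.{0} @Nat) @x0 (@Prod.fst.{0, 0} @Nat @Nat (@Option.rec.{1, 0} (@Prod.{0, 0} @Nat @Nat) @(fun (x5 : @Option.{0} (@Prod.{0, 0} @Nat @Nat)) => @Prod.{0, 0} @Nat @Nat) (@Prod.mk.{0, 0} @Nat @Nat (nat_lit 0) (nat_lit 0)) @(fun (x5 : @Prod.{0, 0} @Nat @Nat) => x5) (@Cfsg.Agent.KO1e989cd.k17.{0} (@Prod.{0, 0} @Nat @Nat) @x1 @x4))))) (@Prod.snd.{0, 0} @Nat @Nat (@Option.rec.{1, 0} (@Prod.{0, 0} @Nat @Nat) @(fun (x5 : @Option.{0} (@Prod.{0, 0} @Nat @Nat)) => @Prod.{0, 0} @Nat @Nat) (@Prod.mk.{0, 0} @Nat @Nat (nat_lit 0) (nat_lit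 0)) @(fun (x5 : @Prod.{0, 0} @Nat @Nat) => x5) (@Cfsg.Agent.KO1e989cd.k17.{0} (@Prod.{0, 0} @Nat @Nat) @x1 @x4))))) @x4) (@Bool.rec.{1} @(fun (x5 : @Bool) => @Bool) @Bool.false (@Nat.ble (@Nat.succ (@Prod.snd.{0, 0} @Nat @Nat (@Option.rec.{1, 0} (@Prod.{0, 0} @Nat @Nat) @(fun (x5 : @Option.{0} (@Prod.{0, 0} @Nat @Nat)) => @Prod.{0, 0} @Nat @Nat) (@Prod.mk.{0, 0} @Nat @Nat (nat_lit 0) (nat_lit 0)) @(fun (x5 : @Prod.{0, 0} @Nat @Nat) => x5) (@Cfsg.Agent.KO1e989cd.k17.{0} (@Prod.{0, 0} @Nat @Nat) @x1 @x4)))) @x3) (@Bool.rec.{1} @(fun (x5 : @Bool) => @Bool) @Bool.false (@Nat.ble (@Nat.succ (@Prod.fst.{0, 0} @Nat @Nat (@Option.rec.{1, 0} (@Prod.{0, 0} @Nat @Nat) @(fun (x5 : @Option.{0} (@Prod.{0, 0} @Nat @Nat)) => @Prod.{0, 0} @Nat @Nat) (@Prod.mk.{0, 0} @Nat @Nat (nat_lit 0) (nat_lit 0)) @(fun (x5 : @Prod.{0, 0} @Nat @Nat) => x5) (@Cfsg.Agent.KO1e989cd.k17.{0} (@Prod.{0, 0} @Nat @Nat) @x1 @x4)))) @x2) (@Nat.ble (@Nat.succ @x4) (@Prod.fst.{0,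 0} @Nat @Nat (@Option.rec.{1, 0} (@Prod.{0, 0} @Nat @Nat) @(fun (x5 : @Option.{0} (@Prod.{0, 0} @Nat @Nat)) => @Prod.{0, 0} @Nat @Nat) (@Prod.mk.{0, 0} @Nat @Nat (nat_lit 0) (nat_lit 0)) @(fun (x5 : @Prod.{0, 0} @Nat @Nat) => x5) (@Cfsg.Agent.KO1e989cd.k17.{0} (@Prod.{0, 0} @Nat @Nat) @x1 @x4))))))) @Bool.true (@Nat.beq @x4 (@Nat.sub @x2 (nat_lit 1)))) (@Cfsg.Agent.KO1e989cd.k13.{0} @Nat (@Cfsg.Agent.KO1e989cd.k15 @x3 (@List.nil.{0} @Nat)) @(fun (x5 : @Nat) => @Nat.ble (@Nat.succ (@Option.rec.{1, 0} @Nat @(fun (x6 : @Option.{0} @Nat) => @Nat) (nat_lit 0) @(fun (x6 : @Nat) => x6) (@Cfsg.Agent.KO1e989cd.k17.{0} @Nat (@Option.rec.{1, 0} (@List.{0} @Nat) @(fun (x6 : @Option.{0} (@List.{0} @Nat)) => @List.{0} @Nat) (@List.nil.{0} @Nat) @(fun (x6 : @List.{0} @Nat) => x6) (@Cfsg.Agent.KO1e989cd.k17.{0} (@List.{0} @Nat) @x0 @x4)) @x5))) @x2))))) ?_); rewrite [← Cfsg.Agent.KO1e989cd.e13.{0}, ← Cfsg.Agent.KO1e989cd.e15, ← Cfsg.Agent.KO1e989cd.e17.{0}];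 rfl') | exact @Cfsg.Agent.H935.J4Max.M22Data.okT | exact ()
private theorem _root_.Cfsg.Agent.KO1e989cd.e18 : (by first | exact @Cfsg.Agent.H935.J4Max.M22Data.okT = @_root_.Cfsg.Agent.KO1e989cd.k18 | exact True : Prop) := by first | (delta _root_.Cfsg.Agent.KO1e989cd.k18; exact @Subtype.property _ (fun g => @Cfsg.Agent.H935.J4Max.M22Data.okT = @g) _) | rfl | trivial

theorem okA : okT tA pA 120 3 = true := by (first | (rewrite [Cfsg.Agent.KO1e989cd.e18]; decide +kernel) | decide +kernel)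

/-- inequalities in the centralizer of `d`; `130` is the index of `s` -/
def nsA : List (List ℕ × List ℕ) :=
  ((List.range 119).map fun i => ([i, 130], [130, i])) ++
  (((List.range 119).map fun i => cond (Nat.beq (oA.getD i 0) 2) ([i, 130, i, 130], [130, i, 130, i]) ([i, i], [])) ++
  ((List.range 119).map fun i => cond (Nat.beq (oA.getD i 0) 3) ([i], []) ([i, i, i], [])))

private noncomputable def _root_.Cfsg.Agent.KO1e989cd.k19 : (by first | exact type_of% @Cfsg.Agent.H935.J4Max.ListCl.memB | exact Unit : Sort _) := by first | (refine @Subtype.val _ (fun g => @Cfsg.Agent.H935.J4Max.ListCl.memB = @g) (@Subtype.mk _ _ (@(fun (x0 : @Nat) (x1 : @List.{0} @Nat) => @List.rec.{1, 0} @Nat @(fun (x2 : @List.{0} @Nat) => @Bool) @Bool.false @(fun (x2 : @Nat) (x3 : @List.{0} @Nat) (x4 : @Bool) => @Bool.rec.{1} @(fun (x5 : @Bool) => @Bool) @x4 @Bool.true (@Nat.beq @x0 @x2)) @x1)) ?_); rfl') | exact @Cfsg.Agent.H935.J4Max.ListCl.memB | exact ()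
private theorem _root_.Cfsg.Agent.KO1e989cd.e19 : (by first | exact @Cfsg.Agent.H935.J4Max.ListCl.memB = @_root_.Cfsg.Agent.KO1e989cd.k19 | exact True : Prop) := by first | (delta _root_.Cfsg.Agent.KO1e989cd.k19; exact @Subtype.property _ (fun g => @Cfsg.Agent.H935.J4Max.ListCl.memB = @g) _) | rfl | trivial
private noncomputable def _root_.Cfsg.Agent.KO1e989cd.k20 : (by first | exact type_of% @Cfsg.Agent.H935.J4Max.ListCl.ndB | exact Unit : Sort _) := by first | (refine @Subtype.val _ (fun g => @Cfsg.Agent.H935.J4Max.ListCl.ndB = @g) (@Subtype.mk _ _ (@(fun (x0 : @List.{0} @Nat) => @List.rec.{1, 0} @Nat @(fun (x1 : @List.{0} @Nat) => @Bool) @Bool.true @(fun (x1 : @Nat) (x2 : @List.{0} @Nat) (x3 : @Bool) => @Bool.rec.{1} @(fun (x4 : @Bool) => @Bool) @x3 @Bool.false (@Cfsg.Agent.KO1e989cd.k19 @x1 @x2)) @x0)) ?_); rewrite [← Cfsg.Agent.KO1e989cd.e19]; (try delta Cfsg.Agent.H935.J4Max.ListCl.ndB); (try generalize @Cfsg.Agent.H935.J4Max.ListCl.memB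 = g0); rfl') | exact @Cfsg.Agent.H935.J4Max.ListCl.ndB | exact ()
private theorem _root_.Cfsg.Agent.KO1e989cd.e20 : (by first | exact @Cfsg.Agent.H935.J4Max.ListCl.ndB = @_root_.Cfsg.Agent.KO1e989cd.k20 | exact True : Prop) := by first | (delta _root_.Cfsg.Agent.KO1e989cd.k20; exact @Subtype.property _ (fun g => @Cfsg.Agent.H935.J4Max.ListCl.ndB = @g) _) | rfl | trivial
private noncomputable def _root_.Cfsg.Agent.KO1e989cd.k22.{ku0} : ((x0 : Sort (ku0+1)) → (@Nat → ((@List.{ku0} @x0) → @List.{ku0} @x0))) := @(fun (x0 : Sort (ku0+1)) (x1 : @Nat) (x2 : @List.{ku0} @x0) => @Nat.rec.{(ku0+1)} @(fun (x3 : @Nat) => ((@List.{ku0} @x0) → @List.{ku0} @x0)) @(fun (x3 : @List.{ku0} @x0) => @List.nil.{ku0} @x0) @(fun (x3 : @Nat) (x4 : ((@List.{ku0} @x0) → @List.{ku0} @x0)) (x5 : @List.{ku0} @x0) => @List.rec.{(ku0+1), ku0} @x0 @(fun (x6 : @List.{ku0} @x0) => @List.{ku0} @x0) (@List.nil.{ku0} @x0) @(fun (x6 : x0) (x7 : @List.{ku0} @x0) (x8 : @List.{ku0}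 @x0) => @List.cons.{ku0} @x0 @x6 (@x4 @x7)) @x5) @x1 @x2)
private theorem _root_.Cfsg.Agent.KO1e989cd.e22.{ku0} : @List.take.{ku0} = @_root_.Cfsg.Agent.KO1e989cd.k22.{ku0} := by delta _root_.Cfsg.Agent.KO1e989cd.k22; funext a0 a1 a2; refine (congrFun (_root_.Cfsg.Agent.KO1e989cd.e14 (fun a1 a2 => @List.take.{ku0} a0 a1 a2) ?_ (fun c0 => ?_) a1) a2 :) <;> [(funext b0; (rfl')); (funext b0; (cases b0 with | @nil  => (rfl') | @cons b0_0 b0_1 => (rfl')))]
private noncomputable def _root_.Cfsg.Agent.KO1e989cd.k23 : (by first | exact type_of% @Cfsg.Agent.H935.J4Max.ListCl.chk | exact Unit : Sort _) := by first | (refine @Subtype.val _ (fun g => @Cfsg.Agent.H935.J4Max.ListCl.chk = @g) (@Subtype.mk _ _ (@(fun (x0 : @List.{0} (@List.{0} @Nat)) (x1 : @Nat) (x2 : @List.{0} (@Prod.{0, 0} (@List.{0} @Nat) (@List.{0} @Nat))) (x3 : @List.{0} (@Prod.{0, 0} (@List.{0} @Nat) (@List.{0} @Nat))) => @Cfsg.Agent.KO1e989cd.k7 (nat_lit 112) @x0 @Cfsg.Agent.J4.Rep112.codes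 @(fun (x4 : @List.{0} @Nat) => @Bool.rec.{1} @(fun (x5 : @Bool) => @Bool) @Bool.false (@Bool.rec.{1} @(fun (x5 : @Bool) => @Bool) @Bool.false (@Cfsg.Agent.KO1e989cd.k8 (nat_lit 112) @x3 @x4) (@Cfsg.Agent.KO1e989cd.k9 (nat_lit 112) @x2 @x4)) (@Cfsg.Agent.KO1e989cd.k20 (@Cfsg.Agent.KO1e989cd.k22.{0} @Nat @x1 @x4))))) ?_); rewrite [← Cfsg.Agent.KO1e989cd.e7, ← Cfsg.Agent.KO1e989cd.e8, ← Cfsg.Agent.KO1e989cd.e9, ← Cfsg.Agent.KO1e989cd.e20, ← Cfsg.Agent.KO1e989cd.e22.{0}]; (try delta Cfsg.Agent.H935.J4Max.ListCl.chk); (try generalize @Cfsg.Agent.Lib.F2MatGroup.run = g0); (try generalize @Cfsg.Agent.J4.Rep112.codes = g1); (try generalize @Cfsg.Agent.Lib.F2MatGroup.neqs = g2); (try generalize @Cfsg.Agent.Lib.F2MatGroup.eqs = g3); (try generalize @Cfsg.Agent.H935.J4Max.ListCl.ndB = g4); rfl') | exact @Cfsg.Agent.H935.J4Max.ListCl.chk | exact ()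
private theorem _root_.Cfsg.Agent.KO1e989cd.e23 : (by first | exact @Cfsg.Agent.H935.J4Max.ListCl.chk = @_root_.Cfsg.Agent.KO1e989cd.k23 | exact True : Prop) := by first | (delta _root_.Cfsg.Agent.KO1e989cd.k23; exact @Subtype.property _ (fun g => @Cfsg.Agent.H935.J4Max.ListCl.chk = @g) _) | rfl | trivial
private noncomputable def _root_.Cfsg.Agent.KO1e989cd.k24.{ku0} : ((x0 : Sort (ku0+1)) → ((@List.{ku0} @x0) → ((@List.{ku0} @x0) → @List.{ku0} @x0))) := @(fun (x0 : Sort (ku0+1)) (x1 : @List.{ku0} @x0) (x2 : @List.{ku0} @x0) => @List.rec.{(ku0+1), ku0} @x0 @(fun (x3 : @List.{ku0} @x0) => ((@List.{ku0} @x0) → @List.{ku0} @x0)) @(fun (x3 : @List.{ku0} @x0) => x3) @(fun (x3 : x0) (x4 : @List.{ku0} @x0) (x5 : ((@List.{ku0} @x0) → @List.{ku0} @x0)) (x6 : @List.{ku0} @x0) => @List.cons.{ku0} @x0 @x3 (@x5 @x6)) @x1 @x2)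
private theorem _root_.Cfsg.Agent.KO1e989cd.e24.{ku0} : @List.append.{ku0} = @_root_.Cfsg.Agent.KO1e989cd.k24.{ku0} := by delta _root_.Cfsg.Agent.KO1e989cd.k24; funext a0 a1 a2; refine (congrFun (_root_.Cfsg.Agent.KO1e989cd.e12 (fun a1 a2 => @List.append.{ku0} a0 a1 a2) ?_ (fun c0 c1 => ?_) a1) a2 :) <;> (rfl')
private noncomputable def _root_.Cfsg.Agent.KO1e989cd.k25.{ku0} : ((x0 : Sort (ku0+1)) → ((@List.{ku0} (@List.{ku0} @x0)) → @List.{ku0} @x0)) := @(fun (x0 : Sort (ku0+1)) (x1 : @List.{ku0} (@List.{ku0} @x0)) => @List.rec.{(ku0+1), ku0} (@List.{ku0} @x0) @(fun (x2 : @List.{ku0} (@List.{ku0} @x0)) => @List.{ku0} @x0) (@List.nil.{ku0} @x0) @(fun (x2 : @List.{ku0} @x0) (x3 : @List.{ku0} (@List.{ku0} @x0)) (x4 : @List.{ku0} @x0) => @Cfsg.Agent.KO1e989cd.k24.{ku0} @x0 @x2 @x4) @x1)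
private theorem _root_.Cfsg.Agent.KO1e989cd.e25.{ku0} : @List.flatten.{ku0} = @_root_.Cfsg.Agent.KO1e989cd.k25.{ku0} := by delta _root_.Cfsg.Agent.KO1e989cd.k25; rewrite [← Cfsg.Agent.KO1e989cd.e24.{ku0}]; funext a0 a1; refine (_root_.Cfsg.Agent.KO1e989cd.e12 (fun a1 => @List.flatten.{ku0} a0 a1) ?_ (fun c0 c1 => ?_) a1 :) <;> (rfl')
private noncomputable def _root_.Cfsg.Agent.KO1e989cd.k26.{ku0, ku1} : ((x0 : Sort (ku0+1)) → ((x1 : Sort (ku1+1)) → ((x0 → x1) → ((@List.{ku0} @x0) → @List.{ku1} @x1)))) := @(fun (x0 : Sort (ku0+1)) (x1 : Sort (ku1+1)) (x2 : (x0 → x1)) (x3 : @List.{ku0} @x0) => @List.rec.{(ku1+1), ku0} @x0 @(fun (x4 : @List.{ku0} @x0) => @List.{ku1} @x1) (@List.nil.{ku1} @x1) @(fun (x4 : x0) (x5 : @List.{ku0} @x0) (x6 : @List.{ku1} @x1) => @List.cons.{ku1} @x1 (@x2 @x4) @x6) @x3)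
private theorem _root_.Cfsg.Agent.KO1e989cd.e26.{ku0, ku1} : @List.map.{ku0, ku1} = @_root_.Cfsg.Agent.KO1e989cd.k26.{ku0, ku1} := by delta _root_.Cfsg.Agent.KO1e989cd.k26; funext a0 a1 a2 a3; refine (_root_.Cfsg.Agent.KO1e989cd.e12 (fun a3 => @List.map.{ku0, ku1} a0 a1 a2 a3) ?_ (fun c0 c1 => ?_) a3 :) <;> (rfl')
private noncomputable def _root_.Cfsg.Agent.KO1e989cd.k27.{ku0} : ((x0 : Sort (ku0+1)) → ((@List.{ku0} @x0) → @Nat)) := @(fun (x0 : Sort (ku0+1)) (x1 : @List.{ku0} @x0) => @List.rec.{1, ku0} @x0 @(fun (x2 : @List.{ku0} @x0) => @Nat) (nat_lit 0) @(fun (x2 : x0) (x3 : @List.{ku0} @x0) (x4 : @Nat) => @Nat.add @x4 (nat_lit 1)) @x1)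
private theorem _root_.Cfsg.Agent.KO1e989cd.e27.{ku0} : @List.length.{ku0} = @_root_.Cfsg.Agent.KO1e989cd.k27.{ku0} := by delta _root_.Cfsg.Agent.KO1e989cd.k27; funext a0 a1; refine (_root_.Cfsg.Agent.KO1e989cd.e12 (fun a1 => @List.length.{ku0} a0 a1) ?_ (fun c0 c1 => ?_) a1 :) <;> (rfl')
private noncomputable def _root_.Cfsg.Agent.KO1e989cd.k28 : (by first | exact type_of% @Cfsg.Agent.H935.J4Max.M22Data.esT | exact Unit : Sort _) := by first | (refine @Subtype.val _ (fun g => @Cfsg.Agent.H935.J4Max.M22Data.esT = @g) (@Subtype.mk _ _ (@(fun (x0 : @List.{0} (@List.{0} @Nat)) (x1 : @Nat) (x2 : @List.{0} @Nat) => @Cfsg.Agent.KO1e989cd.k25.{0} (@Prod.{0, 0} (@List.{0} @Nat) (@List.{0} @Nat)) (@Cfsg.Agent.KO1e989cd.k26.{0, 0} @Nat (@List.{0} (@Prod.{0, 0} (@List.{0} @Nat) (@List.{0} @Nat))) @(fun (x3 : @Nat) => @Cfsg.Agent.KO1e989cd.k26.{0, 0} @Nat (@Prod.{0, 0} (@List.{0} @Nat) (@List.{0} @Nat)) @(fun (x4 : @Nat) => @Prod.mk.{0, 0} (@List.{0}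 @Nat) (@List.{0} @Nat) (@List.cons.{0} @Nat @x3 (@List.cons.{0} @Nat (@Option.rec.{1, 0} @Nat @(fun (x5 : @Option.{0} @Nat) => @Nat) (nat_lit 0) @(fun (x5 : @Nat) => x5) (@Cfsg.Agent.KO1e989cd.k17.{0} @Nat @x2 @x4)) (@List.nil.{0} @Nat))) (@List.cons.{0} @Nat (@Option.rec.{1, 0} @Nat @(fun (x5 : @Option.{0} @Nat) => @Nat) (nat_lit 0) @(fun (x5 : @Nat) => x5) (@Cfsg.Agent.KO1e989cd.k17.{0} @Nat (@Option.rec.{1, 0} (@List.{0} @Nat) @(fun (x5 : @Option.{0} (@List.{0} @Nat)) => @List.{0} @Nat) (@List.nil.{0} @Nat) @(fun (x5 : @List.{0} @Nat) => x5) (@Cfsg.Agent.KO1e989cd.k17.{0} (@List.{0} @Nat) @x0 @x3)) @x4)) (@List.nil.{0} @Nat))) (@Cfsg.Agent.KO1e989cd.k15 (@Cfsg.Agent.KO1e989cd.k27.{0} @Nat @x2) (@List.nil.{0} @Nat))) (@Cfsg.Agent.KO1e989cd.k15 @x1 (@List.nil.{0} @Nat))))) ?_); rewrite [← Cfsg.Agent.KO1e989cd.e25.{0}, ← Cfsg.Agent.KO1e989cd.e26.{0, 0}, ← Cfsg.Agent.KO1e989cd.e17.{0}, ← Cfsg.Agent.KO1e989cd.e15, ← Cfsg.Agent.KO1e989cd.e27.{0}];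 rfl') | exact @Cfsg.Agent.H935.J4Max.M22Data.esT | exact ()
private theorem _root_.Cfsg.Agent.KO1e989cd.e28 : (by first | exact @Cfsg.Agent.H935.J4Max.M22Data.esT = @_root_.Cfsg.Agent.KO1e989cd.k28 | exact True : Prop) := by first | (delta _root_.Cfsg.Agent.KO1e989cd.k28; exact @Subtype.property _ (fun g => @Cfsg.Agent.H935.J4Max.M22Data.esT = @g) _) | rfl | trivial

theorem chkA : chk (ws ++ wsA) 120 (([119], []) :: esT tA 120 gsA) nsA = true := by (first | (rewrite [Cfsg.Agent.KO1e989cd.e23, Cfsg.Agent.KO1e989cd.e28]; decide +kernel) | decide +kernel)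

/-- for every element of order 3 a word with prime order `29, 31, 37` or `43` -/
def tT : List (ℕ × List ℕ × ℕ) := [(102, [138, 130, 138, 102, 102], 37), (98, [137, 129, 98, 98, 130], 43), (97,
  [97, 130, 137, 130], 43), (90, [130, 137, 130, 90, 90], 31), (62, [62, 62, 130, 62, 62], 37), (52, [130, 129, 52,
  138], 43), (50, [130, 50, 138], 29), (47, [47, 130, 137], 37), (46, [46, 130, 46], 37), (45, [45, 130, 137], 29),
  (42, [130, 42, 138], 37), (40, [138, 40, 40, 130, 138], 31), (13, [130, 13, 137], 31), (12, [130, 138, 12], 31),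
  (11, [129, 130, 11, 11], 43), (8, [8, 8, 130, 138], 31), (7, [129, 7, 7, 130], 43), (6, [137, 130, 6, 6], 31), (2,
  [130, 129, 2, 2], 43), (1, [130, 138, 1, 1], 43)]

private noncomputable def _root_.Cfsg.Agent.KO1e989cd.k29 : (@Nat → @List.{0} @Nat) := @(fun (x0 : @Nat) => @Cfsg.Agent.KO1e989cd.k15 @x0 (@List.nil.{0} @Nat))
private theorem _root_.Cfsg.Agent.KO1e989cd.e29 : @List.range = @_root_.Cfsg.Agent.KO1e989cd.k29 := by delta _root_.Cfsg.Agent.KO1e989cd.k29; rewrite [← Cfsg.Agent.KO1e989cd.e15]; rfl'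
private noncomputable def _root_.Cfsg.Agent.KO1e989cd.k30 : (@Bool → (@Bool → @Bool)) := @(fun (x0 : @Bool) (x1 : @Bool) => @Bool.rec.{1} @(fun (x2 : @Bool) => @Bool) @x1 @Bool.true @x0)
private theorem _root_.Cfsg.Agent.KO1e989cd.e30 : @Bool.or = @_root_.Cfsg.Agent.KO1e989cd.k30 := by delta _root_.Cfsg.Agent.KO1e989cd.k30; rfl'
private noncomputable def _root_.Cfsg.Agent.KO1e989cd.k31 : (@Bool → @Bool) := @(fun (x0 : @Bool) => @Bool.rec.{1} @(fun (x1 : @Bool) => @Bool) @Bool.true @Bool.false @x0)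
private theorem _root_.Cfsg.Agent.KO1e989cd.e31 : @Bool.not = @_root_.Cfsg.Agent.KO1e989cd.k31 := by delta _root_.Cfsg.Agent.KO1e989cd.k31; rfl'
private noncomputable def _root_.Cfsg.Agent.KO1e989cd.k32.{ku0} : ((x0 : Sort (ku0+1)) → ((@List.{ku0} @x0) → (@Nat → (x0 → x0)))) := @(fun (x0 : Sort (ku0+1)) (x1 : @List.{ku0} @x0) (x2 : @Nat) (x3 : x0) => @Option.rec.{(ku0+1), ku0} @x0 @(fun (x4 : @Option.{ku0} @x0) => x0) @x3 @(fun (x4 : x0) => x4) (@Cfsg.Agent.KO1e989cd.k17.{ku0} @x0 @x1 @x2))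
private theorem _root_.Cfsg.Agent.KO1e989cd.e32.{ku0} : @List.getD.{ku0} = @_root_.Cfsg.Agent.KO1e989cd.k32.{ku0} := by delta _root_.Cfsg.Agent.KO1e989cd.k32; rewrite [← Cfsg.Agent.KO1e989cd.e17.{ku0}]; rfl'
private noncomputable def _root_.Cfsg.Agent.KO1e989cd.k33.{ku0} : ((x0 : Sort (ku0+1)) → ((@List.{ku0} @x0) → ((x0 → @Bool) → @Bool))) := @(fun (x0 : Sort (ku0+1)) (x1 : @List.{ku0} @x0) (x2 : (x0 → @Bool)) => @List.rec.{(ku0+1), ku0} @x0 @(fun (x3 : @List.{ku0} @x0) => ((x0 → @Bool) → @Bool)) @(fun (x3 : (x0 → @Bool)) => @Bool.false) @(fun (x3 : x0) (x4 : @List.{ku0} @x0) (x5 : ((x0 → @Bool) → @Bool)) (x6 : (x0 → @Bool)) => @Bool.rec.{1} @(fun (x7 : @Bool) => @Bool) (@x5 @x6) @Bool.true (@x6 @x3)) @x1 @x2)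
private theorem _root_.Cfsg.Agent.KO1e989cd.e33.{ku0} : @List.any.{ku0} = @_root_.Cfsg.Agent.KO1e989cd.k33.{ku0} := by delta _root_.Cfsg.Agent.KO1e989cd.k33; funext a0 a1 a2; refine (congrFun (_root_.Cfsg.Agent.KO1e989cd.e12 (fun a1 a2 => @List.any.{ku0} a0 a1 a2) ?_ (fun c0 c1 => ?_) a1) a2 :) <;> (rfl')
private noncomputable def _root_.Cfsg.Agent.KO1e989cd.k34 : (@Bool → (@Bool → @Bool)) := @(fun (x0 : @Bool) (x1 : @Bool) => @Bool.rec.{1} @(fun (x2 : @Bool) => @Bool) @Bool.false @x1 @x0)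
private theorem _root_.Cfsg.Agent.KO1e989cd.e34 : @Bool.and = @_root_.Cfsg.Agent.KO1e989cd.k34 := by delta _root_.Cfsg.Agent.KO1e989cd.k34; rfl'
private noncomputable def _root_.Cfsg.Agent.KO1e989cd.k35.{ku0} : ((x0 : Sort (ku0+1)) → ((@BEq.{ku0} @x0) → (x0 → ((@List.{ku0} @x0) → @Bool)))) := @(fun (x0 : Sort (ku0+1)) (x1 : @BEq.{ku0} @x0) (x2 : x0) (x3 : @List.{ku0} @x0) => @List.rec.{1, ku0} @x0 @(fun (x4 : @List.{ku0} @x0) => @Bool) @Bool.false @(fun (x4 : x0) (x5 : @List.{ku0} @x0) (x6 : @Bool) => @Bool.rec.{1} @(fun (x7 : @Bool) => @Bool) @x6 @Bool.true (@BEq.beq.{ku0} @x0 @x1 @x2 @x4)) @x3)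
private theorem _root_.Cfsg.Agent.KO1e989cd.e35.{ku0} : @List.elem.{ku0} = @_root_.Cfsg.Agent.KO1e989cd.k35.{ku0} := by delta _root_.Cfsg.Agent.KO1e989cd.k35; funext a0 a1 a2 a3; refine (_root_.Cfsg.Agent.KO1e989cd.e12 (fun a3 => @List.elem.{ku0} a0 a1 a2 a3) ?_ (fun c0 c1 => ?_) a3 :) <;> (rfl')
private noncomputable def _root_.Cfsg.Agent.KO1e989cd.k36.{ku0} : ((x0 : Sort (ku0+1)) → ((@BEq.{ku0} @x0) → ((@List.{ku0} @x0) → (x0 → @Bool)))) := @(fun (x0 : Sort (ku0+1)) (x1 : @BEq.{ku0} @x0) (x2 : @List.{ku0} @x0) (x3 : x0) => @Cfsg.Agent.KO1e989cd.k35.{ku0} @x0 @x1 @x3 @x2)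
private theorem _root_.Cfsg.Agent.KO1e989cd.e36.{ku0} : @List.contains.{ku0} = @_root_.Cfsg.Agent.KO1e989cd.k36.{ku0} := by delta _root_.Cfsg.Agent.KO1e989cd.k36; rewrite [← Cfsg.Agent.KO1e989cd.e35.{ku0}]; rfl'
private noncomputable def _root_.Cfsg.Agent.KO1e989cd.k37 : ((x0 : @Nat) → ((x1 : @Nat) → @Decidable (@Eq.{1} @Nat @x0 @x1))) := @(fun (x0 : @Nat) (x1 : @Nat) => @Bool.rec.{1} @(fun (x2 : @Bool) => ((@Eq.{1} @Bool (@Nat.beq @x0 @x1) @x2) → @Decidable (@Eq.{1} @Nat @x0 @x1))) @(fun (x2 : @Eq.{1} @Bool (@Nat.beq @x0 @x1) @Bool.false) => @Decidable.isFalse (@Eq.{1} @Nat @x0 @x1) (@Nat.ne_of_beq_eq_false @x0 @x1 @x2)) @(fun (x2 : @Eq.{1} @Bool (@Nat.beq @x0 @x1) @Bool.true) => @Decidable.isTrue (@Eq.{1} @Nat @x0 @x1) (@Nat.eq_of_beq_eq_true @x0 @x1 @x2)) (@Nat.beq @x0 @x1) (@Eq.refl.{1} @Bool (@Nat.beq @x0 @x1)))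
private theorem _root_.Cfsg.Agent.KO1e989cd.e37 : @Nat.decEq = @_root_.Cfsg.Agent.KO1e989cd.k37 := by delta _root_.Cfsg.Agent.KO1e989cd.k37; rfl'
private noncomputable def _root_.Cfsg.Agent.KO1e989cd.k38 : @DecidableEq.{1} @Nat := @Cfsg.Agent.KO1e989cd.k37
private theorem _root_.Cfsg.Agent.KO1e989cd.e38 : @instDecidableEqNat = @_root_.Cfsg.Agent.KO1e989cd.k38 := by delta _root_.Cfsg.Agent.KO1e989cd.k38; rewrite [← Cfsg.Agent.KO1e989cd.e37]; rfl'

theorem okB : (List.range 119).all (fun i => !(Nat.beq (oA.getD i 0) 3) || tT.any fun x => Nat.beq x.1 i &&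
    [29, 31, 37, 43].contains x.2.2 && x.2.1.all fun l => [i, 138, 137, 130, 129].contains l) = true := by (first | (rewrite [Cfsg.Agent.KO1e989cd.e13.{0}, Cfsg.Agent.KO1e989cd.e29, Cfsg.Agent.KO1e989cd.e30, Cfsg.Agent.KO1e989cd.e31, Cfsg.Agent.KO1e989cd.e32.{0}, Cfsg.Agent.KO1e989cd.e33.{0}, Cfsg.Agent.KO1e989cd.e34, Cfsg.Agent.KO1e989cd.e36.{0}, Cfsg.Agent.KO1e989cd.e38]; decide +kernel) | decide +kernel)

private noncomputable def _root_.Cfsg.Agent.KO1e989cd.k39.{ku0} : ((x0 : Sort (ku0+1)) → (@Nat → (x0 → @List.{ku0} @x0))) := @(fun (x0 : Sort (ku0+1)) (x1 : @Nat) (x2 : x0) => @Nat.rec.{(ku0+1)} @(fun (x3 : @Nat) => (x0 → @List.{ku0} @x0)) @(fun (x3 : x0) => @List.nil.{ku0} @x0) @(fun (x3 : @Nat) (x4 : (x0 → @List.{ku0} @x0)) (x5 : x0) => @List.cons.{ku0} @x0 @x5 (@x4 @x5)) @x1 @x2)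
private theorem _root_.Cfsg.Agent.KO1e989cd.e39.{ku0} : @List.replicate.{ku0} = @_root_.Cfsg.Agent.KO1e989cd.k39.{ku0} := by delta _root_.Cfsg.Agent.KO1e989cd.k39; funext a0 a1 a2; refine (congrFun (_root_.Cfsg.Agent.KO1e989cd.e14 (fun a1 a2 => @List.replicate.{ku0} a0 a1 a2) ?_ (fun c0 => ?_) a1) a2 :) <;> (rfl')

theorem chkB : check 112 codes (ws ++ wsA) (tT.map fun x => ((List.replicate x.2.2 x.2.1).flatten, []))
    (tT.map fun x => (x.2.1, [])) = true := by (first | (rewrite [Cfsg.Agent.KO1e989cd.e10, Cfsg.Agent.KO1e989cd.e26.{0, 0}, Cfsg.Agent.KO1e989cd.e25.{0}, Cfsg.Agent.KO1e989cd.e39.{0}]; decide +kernel) | decide +kernel)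

/-! ### The 2-subgroup -/

def wsP : List (List ℕ) := [[], [0, 4], [1, 4], [2, 4], [3, 4], [3, 8], [4, 8], [5, 8], [6, 8], [6, 12], [7, 11],
  [8, 11], [8, 15], [9, 13], [9, 17], [10, 16], [11, 16], [11, 20], [12, 20], [13, 20], [14, 20], [14, 24], [15,
  23], [16, 23], [16, 27], [17, 25], [17, 29], [18, 28], [19, 28], [19, 32], [20, 32], [21, 32], [22, 32], [22, 36],
  [23, 34], [23, 38], [24, 37], [25, 37], [25, 41], [26, 41], [27, 41], [28, 41], [28, 45], [29, 44], [30, 44], [30,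
  48], [31, 48], [32, 48], [33, 48], [33, 52], [34, 50], [34, 51], [34, 54], [35, 54], [36, 54], [36, 58], [37, 57],
  [38, 57], [38, 61], [39, 59], [39, 63], [40, 62], [41, 62], [41, 66], [42, 66], [43, 66], [44, 66], [44, 70], [45,
  68], [45, 72], [46, 71], [47, 71], [47, 75], [48, 75], [49, 75], [50, 75], [50, 79], [51, 78], [52, 78], [52, 82],
  [53, 82], [54, 82], [55, 82], [55, 86], [56, 84], [56, 85], [56, 89], [57, 88], [58, 88], [58, 92], [59, 91], [59,
  94], [60, 92], [60, 94], [61, 94], [61, 98], [62, 98], [63, 98], [63, 101], [64, 100], [65, 100], [65, 102], [65,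
  105], [66, 103], [65, 107], [66, 105], [66, 107], [66, 110], [67, 108], [67, 112], [68, 110], [68, 114], [69,
  114], [70, 114], [70, 117], [71, 115], [70, 119], [71, 118], [71, 119], [71, 119], [71, 123], [72, 122], [72,
  124], [73, 124], [73, 124], [72, 128], [73, 127], [74, 127], [74, 131], [75, 129], [75, 133], [76, 132], [77,
  132], [77, 135], [78, 135], [78, 138], [79, 136], [79, 140], [80, 139], [80, 142], [81, 142], [82, 142], [82,
  145], [83, 144], [84, 144], [84, 145], [84, 149], [85, 147], [84, 151], [85, 150], [84, 153], [85, 151], [85,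
  153], [86, 153], [86, 157], [87, 157], [88, 157], [88, 158], [89, 158], [89, 160], [89, 163], [90, 161], [89,
  162], [89, 164], [89, 167], [90, 165], [90, 169], [91, 167], [91, 171], [92, 171], [93, 171], [93, 171], [92,
  175], [93, 174], [93, 175], [93, 175], [93, 177], [93, 179], [94, 179], [94, 179], [93, 180], [93, 184], [94,
  182], [94, 184], [94, 185], [93, 186], [94, 186], [94, 188], [95, 188], [95, 189], [95, 190], [95, 191], [95,
  193], [95, 196], [94, 197], [95, 195], [93, 197], [92, 198], [90, 201], [90, 202], [91, 200], [91, 202], [90,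
  203], [88, 205], [82, 207], [82, 206], [82, 209], [81, 208], [81, 211], [82, 209], [81, 212], [82, 212], [82,
  215], [83, 213], [82, 217], [80, 218], [80, 219], [81, 219], [82, 219], [82, 220], [82, 221], [82, 221], [81,
  223], [81, 226], [82, 224], [82, 228], [83, 228], [83, 227], [82, 229], [82, 231], [83, 231], [82, 231], [81,
  233], [81, 234], [80, 234], [80, 235], [79, 239], [79, 240], [80, 238], [78, 240], [75, 243], [75, 244], [76,
  242], [74, 244], [66, 245], [62, 246], [62, 249], [61, 247], [60, 248], [40, 250], [39, 251], [38, 254], [36,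
  253], [36, 253], [34, 257], [25, 256]]

/-- the indices of the generators -/
def gsP : List ℕ := [259, 258, 257, 256]

/-- the table of products, row by row -/
def tP : List (List ℕ) := [[16, 25, 26, 158], [11, 14, 9, 149], [137, 30, 18, 48], [7, 15, 40, 18], [131, 9, 14,
  165], [149, 44, 45, 16], [17, 32, 47, 156], [70, 55, 66, 1], [0, 53, 64, 92], [81, 4, 1, 224], [68, 49, 73, 99],
  [59, 77, 78, 6], [90, 61, 87, 114], [58, 70, 88, 53], [54, 1, 4, 215], [84, 3, 80, 56], [52, 54, 95, 3], [99, 84,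
  94, 0], [50, 56, 2, 5], [6, 58, 74, 50], [103, 87, 61, 121], [65, 83, 69, 234], [98, 90, 104, 70], [3, 57, 105,
  61], [75, 85, 86, 130], [77, 0, 109, 63], [96, 109, 0, 233], [100, 67, 110, 4], [114, 62, 108, 49], [221, 113, 65,
  216], [82, 2, 56, 116], [53, 59, 93, 57], [55, 6, 51, 212], [5, 114, 115, 59], [121, 108, 62, 72], [2, 76, 118,
  222], [1, 112, 119, 62], [60, 91, 120, 52], [211, 120, 91, 124], [216, 79, 107, 2], [97, 80, 3, 86], [214, 73, 49,
  236], [80, 106, 123, 206], [4, 69, 83, 231], [63, 5, 127, 54], [233, 127, 5, 81], [117, 126, 52, 106], [67, 51, 6,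
  219], [66, 116, 130, 95], [25, 10, 41, 148], [22, 132, 133, 37], [177, 47, 32, 240], [8, 141, 46, 19], [147, 8,
  144, 181], [12, 16, 146, 15], [28, 7, 145, 14], [31, 18, 30, 44], [140, 23, 136, 12], [44, 19, 151, 132], [36, 31,
  153, 23], [158, 140, 152, 11], [10, 12, 20, 33], [37, 28, 34, 10], [13, 158, 159, 178], [162, 144, 8, 190], [24,
  139, 29, 246], [168, 145, 7, 29], [182, 27, 161, 9], [156, 147, 163, 7], [187, 43, 21, 182], [23, 13, 164, 8],
  [38, 160, 166, 144], [9, 138, 167, 188], [35, 41, 10, 199], [48, 151, 19, 154], [21, 142, 143, 200], [242, 35,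
  170, 159], [132, 11, 172, 32], [154, 172, 11, 245], [159, 39, 173, 30], [27, 40, 15, 179], [133, 174, 175, 40],
  [196, 154, 176, 38], [247, 21, 43, 191], [181, 17, 171, 25], [201, 24, 179, 135], [46, 179, 24, 45], [138, 20, 12,
  183], [134, 164, 13, 43], [240, 163, 147, 27], [14, 22, 150, 13], [15, 37, 38, 141], [33, 181, 182, 22], [194,
  153, 31, 134], [190, 171, 17, 35], [143, 146, 16, 39], [20, 131, 186, 47], [34, 177, 184, 26], [18, 178, 187, 17],
  [19, 148, 188, 36], [42, 188, 148, 194], [45, 134, 169, 20], [203, 166, 160, 21], [26, 180, 189, 164], [29, 150,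
  22, 160], [155, 136, 23, 143], [152, 42, 192, 133], [249, 173, 39, 24], [202, 34, 28, 138], [174, 26, 25, 248],
  [191, 161, 27, 139], [136, 168, 193, 41], [178, 36, 196, 28], [30, 29, 139, 243], [32, 33, 197, 31], [245, 197,
  33, 137], [171, 48, 135, 146], [163, 194, 198, 34], [244, 170, 35, 249], [185, 196, 36, 168], [39, 38, 37, 157],
  [40, 183, 200, 153], [173, 200, 183, 241], [239, 192, 42, 176], [41, 157, 201, 151], [170, 189, 180, 166], [43,
  46, 141, 42], [165, 45, 44, 174], [167, 201, 157, 192], [47, 202, 203, 46], [184, 135, 48, 175], [126, 96, 204,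
  51], [49, 50, 206, 91], [72, 206, 50, 129], [51, 101, 207, 87], [110, 130, 116, 229], [79, 105, 57, 213], [73,
  208, 209, 105], [230, 72, 210, 100], [251, 65, 113, 225], [215, 60, 205, 77], [112, 52, 126, 58], [235, 75, 213,
  122], [119, 213, 75, 115], [76, 64, 53, 217], [71, 66, 55, 113], [124, 95, 54, 79], [56, 68, 89, 55], [57, 99,
  100, 112], [92, 215, 216, 68], [228, 104, 90, 71], [252, 74, 58, 82], [224, 205, 60, 96], [69, 93, 59, 101], [64,
  82, 220, 120], [94, 211, 218, 78], [61, 212, 221, 60], [104, 124, 128, 74], [62, 63, 222, 98], [111, 222, 63,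
  228], [115, 71, 102, 64], [237, 110, 67, 65], [78, 214, 223, 66], [86, 89, 68, 67], [106, 88, 70, 69], [108, 224,
  225, 89], [122, 102, 71, 83], [232, 210, 72, 237], [74, 111, 226, 73], [253, 207, 101, 75], [85, 118, 76, 254],
  [236, 94, 84, 76], [208, 78, 77, 252], [225, 107, 79, 85], [93, 81, 229, 80], [209, 229, 81, 107], [83, 220, 82,
  238], [88, 97, 227, 109], [212, 98, 230, 84], [87, 86, 85, 127], [89, 103, 125, 88], [91, 92, 231, 90], [129, 231,
  92, 103], [205, 121, 122, 93], [102, 227, 97, 118], [95, 228, 232, 94], [128, 204, 96, 253], [219, 230, 98, 97],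
  [101, 100, 99, 117], [223, 125, 103, 102], [105, 217, 234, 104], [207, 234, 217, 125], [107, 123, 106, 220], [123,
  226, 111, 210], [109, 117, 235, 108], [204, 223, 214, 110], [113, 119, 112, 111], [116, 115, 114, 208], [118, 235,
  117, 226], [120, 236, 237, 119], [218, 122, 121, 209], [125, 128, 124, 123], [127, 129, 238, 126], [130, 238, 129,
  128], [142, 186, 131, 255], [248, 152, 140, 131], [180, 133, 132, 202], [135, 169, 134, 142], [150, 137, 241,
  136], [189, 241, 137, 169], [139, 167, 138, 250], [145, 155, 239, 172], [141, 156, 242, 140], [144, 143, 142,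
  197], [146, 162, 195, 145], [148, 149, 243, 147], [199, 243, 149, 162], [151, 190, 191, 150], [161, 239, 155,
  186], [153, 240, 244, 152], [198, 176, 154, 203], [157, 242, 156, 155], [160, 159, 158, 185], [175, 195, 162,
  161], [164, 165, 246, 163], [166, 246, 165, 195], [169, 193, 168, 167], [193, 184, 177, 170], [172, 185, 247,
  171], [176, 175, 174, 173], [179, 187, 178, 177], [183, 182, 181, 180], [186, 247, 185, 184], [188, 248, 249,
  187], [192, 191, 190, 189], [195, 198, 194, 193], [197, 199, 250, 196], [200, 250, 199, 198], [255, 203, 202,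
  201], [227, 218, 211, 204], [206, 219, 251, 205], [210, 209, 208, 207], [213, 221, 212, 211], [217, 216, 215,
  214], [220, 251, 219, 218], [222, 252, 253, 221], [226, 225, 224, 223], [229, 232, 228, 227], [231, 233, 254,
  230], [234, 254, 233, 232], [238, 237, 236, 235], [241, 244, 240, 239], [243, 245, 255, 242], [246, 255, 245,
  244], [250, 249, 248, 247], [254, 253, 252, 251]]

/-- the parents -/
def pP : List (ℕ × ℕ) := [(26, 2), (36, 0), (39, 3), (40, 2), (43, 0), (45, 2), (47, 2), (68, 3), (70, 3), (72, 0),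
  (73, 2), (78, 2), (87, 2), (90, 3), (90, 0), (91, 0), (95, 2), (98, 3), (98, 0), (99, 0), (101, 3), (102, 3),
  (104, 2), (105, 2), (107, 3), (109, 2), (109, 1), (110, 2), (112, 3), (113, 1), (113, 0), (114, 3), (114, 0),
  (115, 2), (117, 3), (118, 2), (119, 2), (120, 2), (120, 1), (120, 0), (121, 0), (124, 0), (126, 3), (126, 0),
  (127, 2), (127, 1), (129, 3), (129, 0), (130, 2), (132, 0), (133, 2), (134, 0), (141, 1), (144, 2), (146, 2),
  (147, 3), (147, 0), (148, 0), (151, 2), (153, 2), (156, 3), (156, 0), (158, 0), (159, 2), (160, 3), (161, 3),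
  (162, 3), (163, 3), (163, 2), (164, 3), (164, 2), (166, 2), (167, 2), (168, 3), (168, 0), (169, 3), (171, 3),
  (172, 2), (172, 1), (173, 2), (174, 3), (175, 2), (176, 2), (176, 0), (178, 3), (179, 2), (179, 1), (179, 0),
  (180, 3), (180, 0), (181, 3), (181, 0), (182, 2), (183, 3), (185, 3), (185, 0), (186, 2), (187, 3), (187, 2),
  (188, 2), (188, 1), (188, 0), (189, 3), (189, 2), (190, 3), (190, 0), (192, 2), (192, 0), (194, 3), (194, 0),
  (195, 3), (196, 3), (196, 2), (196, 0), (197, 2), (197, 1), (197, 0), (198, 2), (198, 0), (199, 3), (199, 0),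
  (200, 2), (200, 1), (201, 3), (201, 2), (201, 0), (202, 3), (202, 0), (203, 3), (203, 2), (203, 0), (205, 3),
  (206, 2), (206, 1), (207, 2), (207, 0), (208, 3), (209, 2), (210, 2), (210, 0), (212, 3), (212, 0), (213, 2),
  (213, 1), (213, 0), (214, 3), (214, 0), (215, 3), (215, 0), (216, 2), (217, 3), (217, 0), (219, 3), (219, 0),
  (220, 2), (221, 3), (221, 2), (221, 0), (222, 2), (222, 1), (222, 0), (223, 3), (223, 2), (224, 3), (224, 0),
  (225, 2), (225, 0), (226, 3), (226, 2), (226, 0), (227, 3), (228, 3), (228, 0), (229, 3), (229, 2), (229, 1),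
  (229, 0), (230, 3), (230, 2), (230, 0), (231, 3), (231, 2), (231, 1), (231, 0), (232, 3), (232, 2), (232, 0),
  (233, 3), (233, 0), (234, 3), (234, 2), (234, 1), (234, 0), (235, 3), (235, 2), (235, 0), (236, 3), (236, 0),
  (237, 3), (237, 2), (237, 0), (238, 3), (238, 2), (238, 1), (239, 3), (240, 3), (240, 0), (241, 3), (241, 2),
  (241, 1), (241, 0), (242, 3), (242, 2), (242, 0), (243, 3), (243, 2), (243, 1), (243, 0), (244, 3), (244, 2),
  (244, 0), (245, 3), (245, 0), (246, 3), (246, 2), (246, 1), (246, 0), (247, 3), (247, 2), (247, 0), (248, 3),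
  (248, 0), (249, 3), (249, 2), (249, 0), (250, 3), (250, 2), (250, 1), (250, 0), (251, 3), (251, 2), (251, 0),
  (252, 3), (252, 0), (253, 3), (253, 2), (253, 0), (254, 3), (254, 2), (254, 1), (254, 0), (255, 3), (255, 2),
  (255, 1), (255, 0), (0, 0)]

theorem okP : okT tP pP 256 4 = true := by (first | (rewrite [Cfsg.Agent.KO1e989cd.e18]; decide +kernel) | decide +kernel)

theorem chkP : chk (ws ++ wsP) 256 (([255], []) :: esT tP 256 gsP) [] = true := by (first | (rewrite [Cfsg.Agent.KO1e989cd.e23, Cfsg.Agent.KO1e989cd.e28]; decide +kernel) | decide +kernel)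

end Cfsg.Agent.H935.J4Max.M22Data
end

-- part: H935/J4Max/M22Fin
section
/-!
# The maximal subgroup `Aut(M₂₂)` of `J₄` (helper935)
-/

set_option autoImplicit false

namespace Cfsg.Agent.H935.J4Max.M22Fin

open Cfsg Subgroup
open Cfsg.Agent.Lib Cfsg.Agent.Lib.F2MatGroup Cfsg.Agent.H935.J4Max.Eval
open Cfsg.Agent.H935.J4Max.ListCl Cfsg.Agent.H935.J4Max.M22Data
open Cfsg.Agent.H935.J4Max.M22Abs

/-! ### Transport of the data -/

theorem map_data {G : Type*} {H : Type*} [Group G] [Group H] (D : Data G) (e : G ≃* H) : Nonempty (Data H) := by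
  have hc : ∀ S : Set G, ∀ x ∈ closure S, e x ∈ closure (e '' S) := fun S x hx => by
    have h1 : e x ∈ (closure S).map e.toMonoidHom := ⟨x, hx, rfl⟩
    rw [MonoidHom.map_closure] at h1
    exact h1
  have hK : ∀ x : G, x ∈ D.K → e x ∈ D.K.map e.toMonoidHom := fun x hx => ⟨x, hx, rfl⟩
  refine ⟨⟨e D.d, e D.s, e D.b1, e D.b2, e D.f, D.K.map e.toMonoidHom, ?_, hK _ D.d_mem, hK _ D.b1_mem,
    hK _ D.b2_mem, hK _ D.f_mem, ?_, ?_, ?_, ?_, ?_, ?_, ?_, ?_, ?_, ?_⟩⟩
  · intro h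
    apply D.ne_top
    apply Subgroup.map_injective (f := e.toMonoidHom) e.injective
    rw [h]
    exact (Subgroup.map_top_of_surjective _ e.surjective).symm
  · rw [MulEquiv.orderOf_eq, D.order_d]
  · rw [MulEquiv.orderOf_eq, D.order_b1]
  · rw [MulEquiv.orderOf_eq, D.order_b2]
  · rw [MulEquiv.orderOf_eq, D.order_f]
  · have := hc _ _ D.d_gen
    rwa [Set.image_pair] at this
  · have := hc _ _ D.s_gen
    rwa [Set.image_pair] at this
  · intro y h1 h2 h3
    obtain ⟨x, rfl⟩ := e.surjective y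
    rw [← map_mul, ← map_mul] at h1
    rw [← map_mul] at h2
    obtain ⟨k, hk, h4⟩ := D.inv x (e.injective h1) (e.injective (h2.trans (map_one e).symm))
      (fun h => h3 (by rw [h, map_one]))
    refine ⟨e k, hK _ hk, fun h => h4 (e.injective ?_)⟩
    simpa only [map_mul, map_inv] using h
  · intro y h1 h2
    obtain ⟨x, rfl⟩ := e.surjective y
    rw [← map_mul, ← map_mul] at h1 h2
    rw [D.cent x (e.injective h1) (e.injective h2), map_one]
  · intro y h1 h2
    obtain ⟨x, rfl⟩ := e.surjective y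
    rw [← map_mul, ← map_mul] at h1
    rw [MulEquiv.orderOf_eq] at h2
    obtain ⟨w, hw, h3⟩ := D.three x (e.injective h1) h2
    refine ⟨e w, ?_, by rwa [MulEquiv.orderOf_eq]⟩
    have h4 : e w ∈ (D.K ⊔ zpowers x).map e.toMonoidHom := ⟨w, hw, rfl⟩
    rw [Subgroup.map_sup, MonoidHom.map_zpowers] at h4
    exact h4
  · rw [Subgroup.card_map_of_injective (f := e.toMonoidHom) e.injective]
    exact D.sylow

/-! ### Elements -/

theorem E_cons (ws : List (List ℕ)) (i : ℕ) (w : List ℕ) : E ws (i :: w) = E ws [i] * E ws w := by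
  unfold E
  rw [evG_cons, evG_cons, evG_nil, mul_one]

theorem E_nil (ws : List (List ℕ)) : E ws [] = 1 := rfl

theorem E_two (ws : List (List ℕ)) (i j : ℕ) : E ws [i, j] = E ws [i] * E ws [j] := E_cons ws i [j]

theorem E_three (ws : List (List ℕ)) (i j k : ℕ) : E ws [i, j, k] = E ws [i] * (E ws [j] * E ws [k]) := by
  rw [E_cons ws i [j, k], E_two]

theorem E_four (ws : List (List ℕ)) (i j k l : ℕ) :
    E ws [i, j, k, l] = E ws [i] * (E ws [j] * (E ws [k] * E ws [l])) := by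
  rw [E_cons ws i [j, k, l], E_three]

theorem E_one (ws : List (List ℕ)) (i : ℕ) : E ws [i] = getG (LJ ws) i := by
  unfold E
  rw [evG_cons, evG_nil, mul_one]

theorem E_append (ws : List (List ℕ)) (w w' : List ℕ) : E ws (w ++ w') = E ws w * E ws w' := by
  induction w with
  | nil => rw [List.nil_append, E_nil, one_mul]
  | cons i w ih => rw [List.cons_append, E_cons, E_cons ws i w, ih, mul_assoc]

theorem E_pow (ws : List (List ℕ)) (w : List ℕ) (n : ℕ) : E ws (List.replicate n w).flatten = E ws w ^ n := by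
  induction n with
  | zero => rw [List.replicate_zero, List.flatten_nil, E_nil, pow_zero]
  | succ n ih => rw [List.replicate_succ, List.flatten_cons, E_append, ih, pow_succ']

theorem E_mem {ws : List (List ℕ)} {H : Subgroup Spor.J4} {w : List ℕ} (h : ∀ i ∈ w, E ws [i] ∈ H) :
    E ws w ∈ H := by
  induction w with
  | nil => exact H.one_mem
  | cons i w ih =>
    rw [E_cons]
    exact H.mul_mem (h i List.mem_cons_self) (ih fun j hj => h j (List.mem_cons_of_mem _ hj))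

/-! ### The centralizer `7 × S₅` -/

section cover

variable {G : Type*} [Group G] [Finite G] {d : G} (hd : orderOf d = 7)
  (hC : Nat.card (centralizer (zpowers d : Set G)) = 840) {S : Subgroup G} (hS : Nat.card S = 120)
  (hSC : S ≤ centralizer (zpowers d : Set G))

include hd hS in
theorem eq_one_of_mem {a : G} (h1 : a ∈ zpowers d) (h2 : a ∈ S) : a = 1 := by
  have h3 : (zpowers d) ⊓ S = ⊥ := by
    rw [← disjoint_iff]
    apply Subgroup.disjoint_of_coprime_natCard
    rw [Nat.card_zpowers, hd, hS]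
    norm_num
  have h4 : a ∈ zpowers d ⊓ S := ⟨h1, h2⟩
  rw [h3] at h4
  exact mem_bot.1 h4

include hd hC hS hSC in
theorem cover {x : G} (hx : x * d = d * x) : ∃ a ∈ zpowers d, ∃ b ∈ S, a * b = b * a ∧ x = a * b := by
  have hcomm : ∀ a ∈ zpowers d, ∀ b ∈ S, a * b = b * a := fun a ha b hb =>
    (mem_centralizer_iff.1 (hSC hb)) a ha
  have hzC : zpowers d ≤ centralizer (zpowers d : Set G) := by
    intro a ha
    rw [mem_centralizer_iff]
    intro b hb
    obtain ⟨m, rfl⟩ := ha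
    obtain ⟨n, rfl⟩ := hb
    exact ((Commute.refl d).zpow_zpow n m).eq
  let f : (zpowers d) × S → centralizer (zpowers d : Set G) := fun p =>
    ⟨(p.1 : G) * p.2, Subgroup.mul_mem _ (hzC p.1.2) (hSC p.2.2)⟩
  have hf : Function.Injective f := by
    rintro ⟨a, b⟩ ⟨a', b'⟩ h
    have h1 : (a : G) * b = a' * b' := congrArg Subtype.val h
    have h2 : ((a' : G))⁻¹ * a = b' * (b : G)⁻¹ := by
      rw [inv_mul_eq_iff_eq_mul, ← mul_assoc, eq_mul_inv_iff_mul_eq, h1]
    have h3 : ((a' : G))⁻¹ * a = 1 :=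
      eq_one_of_mem hd hS (mul_mem (inv_mem a'.2) a.2) (h2 ▸ mul_mem b'.2 (inv_mem b.2))
    have h4 : (b' : G) * (b : G)⁻¹ = 1 := h2 ▸ h3
    have h5 : a = a' := Subtype.ext (inv_mul_eq_one.1 h3).symm
    have h6 : b = b' := Subtype.ext (mul_inv_eq_one.1 h4).symm
    rw [h5, h6]
  have hb : Function.Bijective f := (Nat.bijective_iff_injective_and_card f).2
    ⟨hf, by rw [Nat.card_prod, Nat.card_zpowers, hd, hS, hC]⟩
  have hxC : x ∈ centralizer (zpowers d : Set G) := by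
    rw [mem_centralizer_iff]
    rintro _ ⟨n, rfl⟩
    exact ((show Commute d x from hx.symm).zpow_left n).eq
  obtain ⟨⟨a, b⟩, h⟩ := hb.2 ⟨x, hxC⟩
  exact ⟨a, a.2, b, b.2, hcomm _ a.2 _ b.2, (congrArg Subtype.val h).symm⟩

include hd hC hS hSC in
theorem mem_of_pow {x : G} (hx : x * d = d * x) {n : ℕ} (hn : x ^ n = 1) (hc : Nat.Coprime 7 n) : x ∈ S := by
  obtain ⟨a, ha, b, hb, hab, rfl⟩ := cover hd hC hS hSC hx
  rw [(show Commute a b from hab).mul_pow] at hn
  have h1 : a ^ n = 1 := by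
    refine eq_one_of_mem hd hS (pow_mem ha n) ?_
    rw [mul_eq_one_iff_eq_inv.1 hn]
    exact inv_mem (pow_mem hb n)
  have h2 : orderOf a ∣ 7 := by
    have := orderOf_dvd_natCard (⟨a, ha⟩ : zpowers d)
    rwa [Subgroup.orderOf_mk, Nat.card_zpowers, hd] at this
  have h3 : a = 1 := orderOf_eq_one_iff.1 (Nat.eq_one_of_dvd_coprimes hc h2 (orderOf_dvd_of_pow_eq_one h1))
  rw [h3, one_mul]
  exact hb

include hd hC hS hSC in
theorem mem_of_comm {x s : G} (hx : x * d = d * x) (hs : x * s = s * x) (hds : d * s ≠ s * d) : x ∈ S := by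
  obtain ⟨a, ha, b, hb, hab, rfl⟩ := cover hd hC hS hSC hx
  have h0 : orderOf a ∣ 7 := by
    have := orderOf_dvd_natCard (⟨a, ha⟩ : zpowers d)
    rwa [Subgroup.orderOf_mk, Nat.card_zpowers, hd] at this
  have h1 : (a * b) ^ 120 = a := by
    rw [(show Commute a b from hab).mul_pow]
    have h2 : b ^ 120 = 1 := by
      have := pow_card_eq_one' (x := (⟨b, hb⟩ : S))
      rw [hS] at this
      exact congrArg Subtype.val this
    have h3 : a ^ 7 = 1 := orderOf_dvd_iff_pow_eq_one.1 h0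
    rw [h2, mul_one, show 120 = 7 * 17 + 1 by norm_num, pow_succ, pow_mul, h3, one_pow, one_mul]
  have h2 : a * s = s * a := by
    rw [← h1]
    exact ((show Commute (a * b) s from hs).pow_left 120).eq
  have h3 : a = 1 := by
    rcases (Nat.dvd_prime (by norm_num)).1 h0 with h4 | h4
    · exact orderOf_eq_one_iff.1 h4
    · exfalso
      have h5 : zpowers a = zpowers d := Subgroup.eq_of_le_of_card_ge (zpowers_le.2 ha) (by
        rw [Nat.card_zpowers, Nat.card_zpowers, hd, h4])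
      have h6 : d ∈ zpowers a := h5 ▸ mem_zpowers d
      obtain ⟨n, rfl⟩ := h6
      exact hds ((show Commute a s from h2).zpow_left n).eq
  rw [h3, one_mul]
  exact hb

end cover

/-! ### The facts from the checks -/

theorem c0 : (∀ p ∈ es, E ws p.1 = E ws p.2) ∧ (∀ p ∈ ns, E ws p.1 ≠ E ws p.2) := check_J chk0

theorem cA : ((LJ (ws ++ wsA)).take 120).Nodup ∧
    (∀ p ∈ (([119], []) : List ℕ × List ℕ) :: esT tA 120 gsA, E (ws ++ wsA) p.1 = E (ws ++ wsA) p.2) ∧
    (∀ p ∈ nsA, E (ws ++ wsA) p.1 ≠ E (ws ++ wsA) p.2) := chk_sound chkA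

theorem cP : ((LJ (ws ++ wsP)).take 256).Nodup ∧
    (∀ p ∈ (([255], []) : List ℕ × List ℕ) :: esT tP 256 gsP, E (ws ++ wsP) p.1 = E (ws ++ wsP) p.2) ∧
    (∀ p ∈ ([] : List (List ℕ × List ℕ)), E (ws ++ wsP) p.1 ≠ E (ws ++ wsP) p.2) := chk_sound chkP

theorem cB : (∀ p ∈ tT.map (fun x => (((List.replicate x.2.2 x.2.1).flatten, []) : List ℕ × List ℕ)),
      E (ws ++ wsA) p.1 = E (ws ++ wsA) p.2) ∧
    (∀ p ∈ tT.map (fun x => ((x.2.1, []) : List ℕ × List ℕ)), E (ws ++ wsA) p.1 ≠ E (ws ++ wsA) p.2) :=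
  check_J chkB

theorem es_get {es : List (List ℕ × List ℕ)} {ws : List (List ℕ)} (h : ∀ p ∈ es, E ws p.1 = E ws p.2) {a b : List ℕ}
    (i : ℕ) (hi : es[i]? = some (a, b)) : E ws a = E ws b :=
  h (a, b) (List.mem_of_getElem? hi)

theorem ns_get {es : List (List ℕ × List ℕ)} {ws : List (List ℕ)} (h : ∀ p ∈ es, E ws p.1 ≠ E ws p.2) {a b : List ℕ}
    (i : ℕ) (hi : es[i]? = some (a, b)) : E ws a ≠ E ws b :=
  h (a, b) (List.mem_of_getElem? hi)

theorem order_of {ws : List (List ℕ)} {w w' : List ℕ} {p : ℕ} (hp : p.Prime) (h1 : E ws w' = E ws [])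
    (hw : (List.replicate p w).flatten = w') (h2 : E ws w ≠ E ws []) : orderOf (E ws w) = p := by
  have : Fact p.Prime := ⟨hp⟩
  refine orderOf_eq_prime ?_ h2
  rw [← E_pow, hw, h1]
  rfl

theorem order_d : orderOf (E ws [18]) = 7 := order_of (by norm_num) (es_get c0.1 0 rfl) rfl (ns_get c0.2 0 rfl)
theorem order_b1 : orderOf (E ws [8]) = 11 := order_of (by norm_num) (es_get c0.1 5 rfl) rfl (ns_get c0.2 1 rfl)
theorem order_b2 : orderOf (E ws [7]) = 11 := order_of (by norm_num) (es_get c0.1 6 rfl) rfl (ns_get c0.2 2 rfl)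
theorem order_f : orderOf (E ws [4]) = 5 := order_of (by norm_num) (es_get c0.1 7 rfl) rfl (ns_get c0.2 3 rfl)

theorem ds_ne : E ws [18] * E ws [10] ≠ E ws [10] * E ws [18] := by
  have h := ns_get c0.2 (a := [18, 10]) (b := [10, 18]) 4 rfl
  rwa [E_two, E_two] at h

/-- the subgroup -/
noncomputable def K : Subgroup Spor.J4 := closure {E ws [18], E ws [10], E ws [9]}

theorem d_mem : E ws [18] ∈ K := subset_closure (Or.inl rfl)
theorem s_mem : E ws [10] ∈ K := subset_closure (Or.inr (Or.inl rfl))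
theorem k_mem : E ws [9] ∈ K := subset_closure (Or.inr (Or.inr rfl))

theorem D_mem : E ws [17] ∈ K := by
  rw [es_get c0.1 10 rfl]
  refine E_mem fun i hi => ?_
  simp only [List.mem_cons, List.not_mem_nil, or_false, or_self] at hi
  rw [hi]; exact d_mem

theorem E_memK {w : List ℕ} (h : w.all (fun i => [18, 17, 10, 9].contains i) = true) : E ws w ∈ K := by
  refine E_mem fun i hi => ?_
  have h1 := List.all_eq_true.1 h i hi
  simp only [List.contains_iff_mem, List.mem_cons, List.not_mem_nil, or_false] at h1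
  rcases h1 with rfl | rfl | rfl | rfl
  · exact d_mem
  · exact D_mem
  · exact s_mem
  · exact k_mem

theorem b1_mem : E ws [8] ∈ K := by rw [es_get c0.1 11 rfl]; exact E_memK (by decide)
theorem b2_mem : E ws [7] ∈ K := by rw [es_get c0.1 12 rfl]; exact E_memK (by decide)
theorem f_mem : E ws [4] ∈ K := by rw [es_get c0.1 15 rfl]; exact E_memK (by decide)
theorem p0_mem : E ws [3] ∈ K := by rw [es_get c0.1 16 rfl]; exact E_memK (by decide)
theorem p1_mem : E ws [2] ∈ K := by rw [es_get c0.1 17 rfl]; exact E_memK (by decide)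
theorem p2_mem : E ws [1] ∈ K := by rw [es_get c0.1 18 rfl]; exact E_memK (by decide)
theorem p3_mem : E ws [0] ∈ K := by rw [es_get c0.1 19 rfl]; exact E_memK (by decide)

theorem B1_gen : E ws [6] ∈ closure {E ws [8], E ws [7]} := by
  rw [es_get c0.1 13 rfl]
  refine E_mem fun i hi => ?_
  simp only [List.mem_cons, List.not_mem_nil, or_false, or_self] at hi
  rw [hi]; exact subset_closure (Or.inl rfl)

theorem B2_gen : E ws [5] ∈ closure {E ws [8], E ws [7]} := by
  rw [es_get c0.1 14 rfl]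
  refine E_mem fun i hi => ?_
  simp only [List.mem_cons, List.not_mem_nil, or_false, or_self] at hi
  rw [hi]; exact subset_closure (Or.inr rfl)

theorem E_gen {w : List ℕ} (h : w.all (fun i => [8, 7, 6, 5].contains i) = true) :
    E ws w ∈ closure {E ws [8], E ws [7]} := by
  refine E_mem fun i hi => ?_
  have h1 := List.all_eq_true.1 h i hi
  simp only [List.contains_iff_mem, List.mem_cons, List.not_mem_nil, or_false] at h1
  rcases h1 with rfl | rfl | rfl | rfl
  · exact subset_closure (Or.inl rfl)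
  · exact subset_closure (Or.inr rfl)
  · exact B1_gen
  · exact B2_gen

theorem d_gen : E ws [18] ∈ closure {E ws [8], E ws [7]} := by rw [es_get c0.1 8 rfl]; exact E_gen (by decide)
theorem s_gen : E ws [10] ∈ closure {E ws [8], E ws [7]} := by rw [es_get c0.1 9 rfl]; exact E_gen (by decide)

theorem K_ne : K ≠ ⊤ := by
  intro h
  have h1 : K ≤ Stab (F2Mat.toMat 112 v) := by
    unfold K
    rw [closure_le]
    have h2 := invs_sound chkv
    rintro _ (rfl | rfl | rfl)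
    · exact h2 ([18], 1) (by simp)
    · exact h2 ([10], 1) (by simp)
    · exact h2 ([9], 1) (by simp)
  have h2 : getG Cfsg.Agent.J4.Rep112.gens 0 ∉ Stab (F2Mat.toMat 112 v) := by
    have h3 := codes_get Cfsg.Agent.J4.Rep112.codes_gens 0
    rw [getG_map] at h3
    change Codes 112 (Cfsg.Agent.J4.Rep112.rho (getG Cfsg.Agent.J4.Rep112.gens 0)) Cfsg.Agent.J4.RepData.X at h3
    exact not_mem_stab (Cc := cc) h3 chkn0 chkn1
  rw [h, top_le_iff] at h1
  rw [h1] at h2
  exact h2 (mem_top _)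

/-! ### The tables -/

theorem esT_mem {t : List (List ℕ)} {k : ℕ} {gs : List ℕ} {i j : ℕ} (hi : i < k) (hj : j < gs.length) :
    (([i, gs.getD j 0], [tab t i j]) : List ℕ × List ℕ) ∈ esT t k gs := by
  unfold esT
  rw [List.mem_flatMap]
  exact ⟨i, List.mem_range.2 hi, List.mem_map.2 ⟨j, List.mem_range.2 hj, rfl⟩⟩

theorem okT_spec {t : List (List ℕ)} {p : List (ℕ × ℕ)} {k l : ℕ} (h : okT t p k l = true) :
    (∀ i < k, ∀ j < l, tab t i j < k) ∧
      (∀ i < k, i = k - 1 ∨ ∃ i' < k, i < i' ∧ ∃ j < l, tab t i' j = i) := by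
  unfold okT at h
  rw [List.all_eq_true] at h
  constructor
  · intro i hi j hj
    have h1 := h i (List.mem_range.2 hi)
    rw [Bool.and_eq_true] at h1
    have h2 := List.all_eq_true.1 h1.1 j (List.mem_range.2 hj)
    exact Nat.blt_eq.mp h2
  · intro i hi
    have h1 := h i (List.mem_range.2 hi)
    rw [Bool.and_eq_true, Bool.or_eq_true] at h1
    rcases h1.2 with h2 | h2
    · exact Or.inl (Nat.eq_of_beq_eq_true h2)
    · simp only [Bool.and_eq_true] at h2
      obtain ⟨⟨⟨h3, h4⟩, h5⟩, h6⟩ := h2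
      exact Or.inr ⟨_, Nat.blt_eq.mp h4, Nat.blt_eq.mp h3, _, Nat.blt_eq.mp h5, Nat.eq_of_beq_eq_true h6⟩

theorem tab_closed {wsX : List (List ℕ)} {t : List (List ℕ)} {p : List (ℕ × ℕ)} {k : ℕ} {gs : List ℕ}
    (hk : wsX.length = k) (hk0 : 0 < k) (hok : okT t p k gs.length = true)
    (h1 : E (ws ++ wsX) [k - 1] = E (ws ++ wsX) [])
    (hes : ∀ q ∈ esT t k gs, E (ws ++ wsX) q.1 = E (ws ++ wsX) q.2)
    (hnd : ((LJ (ws ++ wsX)).take k).Nodup) :
    (∀ x ∈ Subgroup.closure {x | ∃ j < gs.length, getG (LJ (ws ++ wsX)) (gs.getD j 0) = x},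
      ∃ i < k, getG (LJ (ws ++ wsX)) i = x) ∧
      Nat.card (Subgroup.closure {x | ∃ j < gs.length, getG (LJ (ws ++ wsX)) (gs.getD j 0) = x}) = k := by
  obtain ⟨h2, h3⟩ := okT_spec hok
  refine closed_of_tab (o := k - 1) (tab := tab t) ?_ (by omega) ?_ ?_ h3 (fun i hi => by omega) hnd
  · unfold LJ
    rw [length_runG, List.length_append, hk]
    omega
  · rw [← E_one, h1, E_nil]
  · intro i hi j hj
    refine ⟨?_, h2 i hi j hj⟩
    have h4 := hes _ (esT_mem hi hj)
    rw [← E_one, ← E_one, ← E_one]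
    rwa [E_two] at h4

/-- the factor `S₅` -/
noncomputable def S : Subgroup Spor.J4 :=
  Subgroup.closure {x | ∃ j < gsA.length, getG (LJ (ws ++ wsA)) (gsA.getD j 0) = x}

theorem S_facts : (∀ x ∈ S, ∃ i < 120, E (ws ++ wsA) [i] = x) ∧ Nat.card S = 120 := by
  have h := tab_closed (wsX := wsA) (k := 120) (gs := gsA) (by decide +kernel) (by norm_num) okA
    (cA.2.1 ([119], []) List.mem_cons_self) (fun q hq => cA.2.1 q (List.mem_cons_of_mem _ hq)) cA.1
  refine ⟨fun x hx => ?_, h.2⟩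
  obtain ⟨i, hi, h1⟩ := h.1 x hx
  exact ⟨i, hi, by rw [E_one, h1]⟩

theorem length_wsA : wsA.length = 120 := by decide +kernel

theorem length_wsP : wsP.length = 256 := by decide +kernel

theorem shiftA (i : ℕ) : E (ws ++ wsA) [120 + i] = E ws [i] := by
  have h := E_shift ws wsA i
  rwa [length_wsA] at h

theorem shiftP (i : ℕ) : E (ws ++ wsP) [256 + i] = E ws [i] := by
  have h := E_shift ws wsP i
  rwa [length_wsP] at h

theorem S_cent : S ≤ centralizer (zpowers (E ws [18]) : Set Spor.J4) := by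
  unfold S
  rw [closure_le]
  rintro _ ⟨j, hj, rfl⟩
  have key : ∀ i : ℕ, E ws [i] * E ws [18] = E ws [18] * E ws [i] → getG (LJ (ws ++ wsA)) (120 + i) ∈
      centralizer (zpowers (E ws [18]) : Set Spor.J4) := by
    intro i hi
    rw [← E_one, shiftA, mem_centralizer_iff]
    rintro _ ⟨n, rfl⟩
    exact ((show Commute (E ws [18]) (E ws [i]) from hi.symm).zpow_left n).eq
  have h0 : j < 3 := hj
  interval_cases j
  · refine key 11 ?_
    have h := es_get c0.1 (a := [11, 18]) (b := [18, 11]) 2 rfl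
    rwa [E_two, E_two] at h
  · refine key 13 ?_
    have h := es_get c0.1 (a := [13, 18]) (b := [18, 13]) 3 rfl
    rwa [E_two, E_two] at h
  · refine key 12 ?_
    have h := es_get c0.1 (a := [12, 18]) (b := [18, 12]) 4 rfl
    rwa [E_two, E_two] at h

theorem P_card : 2 ^ 8 ∣ Nat.card K := by
  have h := tab_closed (wsX := wsP) (k := 256) (gs := gsP) (by decide +kernel) (by norm_num) okP
    (cP.2.1 ([255], []) List.mem_cons_self) (fun q hq => cP.2.1 q (List.mem_cons_of_mem _ hq)) cP.1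
  have h1 : Subgroup.closure {x | ∃ j < gsP.length, getG (LJ (ws ++ wsP)) (gsP.getD j 0) = x} ≤ K := by
    rw [closure_le]
    rintro _ ⟨j, hj, rfl⟩
    have key : ∀ i : ℕ, E ws [i] ∈ K → getG (LJ (ws ++ wsP)) (256 + i) ∈ K := by
      intro i hi
      rw [← E_one, shiftP]
      exact hi
    have h0 : j < 4 := hj
    interval_cases j
    · exact key 3 p0_mem
    · exact key 2 p1_mem
    · exact key 1 p2_mem
    · exact key 0 p3_mem
  have h2 := Subgroup.card_dvd_of_le h1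
  rw [h.2] at h2
  exact h2

theorem nsA_mem {i : ℕ} (hi : i < 119) :
    (([i, 130], [130, i]) : List ℕ × List ℕ) ∈ nsA ∧
    (cond (Nat.beq (oA.getD i 0) 2) (([i, 130, i, 130], [130, i, 130, i]) : List ℕ × List ℕ) ([i, i], [])) ∈ nsA ∧
    (cond (Nat.beq (oA.getD i 0) 3) (([i], []) : List ℕ × List ℕ) ([i, i, i], [])) ∈ nsA := by
  unfold nsA
  refine ⟨?_, ?_, ?_⟩
  · exact List.mem_append_left _ (List.mem_map.2 ⟨i, List.mem_range.2 hi, rfl⟩)
  · exact List.mem_append_right _ (List.mem_append_left _ (List.mem_map.2 ⟨i, List.mem_range.2 hi, rfl⟩))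
  · exact List.mem_append_right _ (List.mem_append_right _ (List.mem_map.2 ⟨i, List.mem_range.2 hi, rfl⟩))

theorem shift_s : E (ws ++ wsA) [130] = E ws [10] := shiftA 10

theorem E_119 : E (ws ++ wsA) [119] = 1 := cA.2.1 ([119], []) List.mem_cons_self

theorem lt_of_ne {x : Spor.J4} (hx : x ≠ 1) (h : x ∈ S) : ∃ i < 119, E (ws ++ wsA) [i] = x := by
  obtain ⟨i, hi, rfl⟩ := S_facts.1 x h
  refine ⟨i, ?_, rfl⟩
  by_contra h0
  have : i = 119 := by omega
  rw [this] at hx
  exact hx E_119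

theorem S_comm {x : Spor.J4} (h : x ∈ S) (hs : x * E ws [10] = E ws [10] * x) : x = 1 := by
  by_contra hx
  obtain ⟨i, hi, rfl⟩ := lt_of_ne hx h
  apply cA.2.2 _ (nsA_mem hi).1
  show E (ws ++ wsA) [i, 130] = E (ws ++ wsA) [130, i]
  rw [E_two, E_two, shift_s]
  exact hs

theorem S_inv {x : Spor.J4} (h : x ∈ S) (h2 : x * x = 1) (h1 : x ≠ 1) :
    x * (E ws [10] * x * (E ws [10])⁻¹) ≠ (E ws [10] * x * (E ws [10])⁻¹) * x := by
  obtain ⟨i, hi, rfl⟩ := lt_of_ne h1 h
  have h3 := cA.2.2 _ (nsA_mem hi).2.1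
  rcases hb : Nat.beq (oA.getD i 0) 2 with _ | _
  · rw [hb] at h3
    exfalso
    apply h3
    show E (ws ++ wsA) [i, i] = E (ws ++ wsA) []
    rw [E_two, E_nil]
    exact h2
  · rw [hb] at h3
    intro h4
    apply h3
    show E (ws ++ wsA) [i, 130, i, 130] = E (ws ++ wsA) [130, i, 130, i]
    have hs : (E ws [10])⁻¹ = E ws [10] := by
      rw [inv_eq_iff_mul_eq_one]
      have h5 := es_get c0.1 (a := [10, 10]) (b := []) 1 rfl
      rwa [E_two, E_nil] at h5
    rw [hs] at h4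
    rw [E_four, E_four, shift_s]
    simpa only [mul_assoc] using h4

theorem S_three {x : Spor.J4} (h : x ∈ S) (h3 : orderOf x = 3) : ∃ w ∈ K ⊔ zpowers x, orderOf w ∈ [29, 31, 37, 43] := by
  have h1 : x ≠ 1 := by
    rintro rfl
    rw [orderOf_one] at h3
    norm_num at h3
  obtain ⟨i, hi, rfl⟩ := lt_of_ne h1 h
  have h4 := cA.2.2 _ (nsA_mem hi).2.2
  rcases hb : Nat.beq (oA.getD i 0) 3 with _ | _
  · rw [hb] at h4
    exfalso
    apply h4
    show E (ws ++ wsA) [i, i, i] = E (ws ++ wsA) []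
    rw [E_three, E_nil]
    have h5 := pow_orderOf_eq_one (E (ws ++ wsA) [i])
    rw [h3, pow_succ, pow_two] at h5
    rw [← mul_assoc]
    exact h5
  · have h5 := List.all_eq_true.1 okB i (List.mem_range.2 hi)
    rw [hb, Bool.not_true, Bool.false_or, List.any_eq_true] at h5
    obtain ⟨q, hq, h6⟩ := h5
    simp only [Bool.and_eq_true] at h6
    obtain ⟨⟨h7, h8⟩, h9⟩ := h6
    have hp : q.2.2 ∈ [29, 31, 37, 43] := List.contains_iff_mem.1 h8
    have hpp : q.2.2.Prime := by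
      simp only [List.mem_cons, List.not_mem_nil, or_false] at hp
      rcases hp with h | h | h | h <;> rw [h] <;> norm_num
    refine ⟨E (ws ++ wsA) q.2.1, E_mem fun l hl => ?_, ?_⟩
    · have h10 := List.all_eq_true.1 h9 l hl
      rw [List.contains_iff_mem] at h10
      simp only [List.mem_cons, List.not_mem_nil, or_false] at h10
      rcases h10 with rfl | rfl | rfl | rfl | rfl
      · exact Subgroup.mem_sup_right (mem_zpowers _)
      · exact Subgroup.mem_sup_left ((shiftA 18).symm ▸ d_mem)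
      · exact Subgroup.mem_sup_left ((shiftA 17).symm ▸ D_mem)
      · exact Subgroup.mem_sup_left ((shiftA 10).symm ▸ s_mem)
      · exact Subgroup.mem_sup_left ((shiftA 9).symm ▸ k_mem)
    · have h11 := cB.1 _ (List.mem_map.2 ⟨q, hq, rfl⟩)
      have h12 := cB.2 _ (List.mem_map.2 ⟨q, hq, rfl⟩)
      rw [order_of hpp h11 rfl h12]
      exact hp

/-- **the data** -/
theorem exists_data (hC : Nat.card (centralizer (zpowers (E ws [18]) : Set Spor.J4)) = 840) :
    Nonempty (Data Spor.J4) := by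
  refine ⟨⟨E ws [18], E ws [10], E ws [8], E ws [7], E ws [4], K, K_ne, d_mem, b1_mem, b2_mem, f_mem, order_d,
    order_b1, order_b2, order_f, d_gen, s_gen, ?_, ?_, ?_, P_card⟩⟩
  · intro x h1 h2 h3
    exact ⟨E ws [10], s_mem, S_inv (mem_of_pow order_d hC S_facts.2 S_cent h1 (n := 2)
      (by rw [pow_two]; exact h2) (by norm_num)) h2 h3⟩
  · intro x h1 h2
    exact S_comm (mem_of_comm order_d hC S_facts.2 S_cent h1 h2 ds_ne) h2
  · intro x h1 h3
    exact S_three (mem_of_pow order_d hC S_facts.2 S_cent h1 (n := 3)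
      (by rw [← h3]; exact pow_orderOf_eq_one x) (by norm_num)) h3

universe u

/-- **the maximal subgroup `Aut(M₂₂)` of `J₄`** -/
theorem part_d {G : Type u} [Group G] [Finite G] (F : H866.J4Odd.Facts G) (e : Spor.J4 ≃* G) :
    ∃ M : Subgroup G, IsCoatom M ∧ Nonempty (↥M ≃* MulAut ↥Cfsg.Spor.M22) := by
  have h1 : Nat.card (centralizer (zpowers (E ws [18]) : Set Spor.J4)) = 840 := by
    have h2 : Nat.card (zpowers (e (E ws [18]))) = 7 := by rw [Nat.card_zpowers, MulEquiv.orderOf_eq, order_d]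
    obtain ⟨h3, h4⟩ := F.n7 _ h2
    have h5 : Nat.card (centralizer (zpowers (e (E ws [18])) : Set G)) = 840 := by omega
    rw [← h5]
    refine Nat.card_congr (Equiv.subtypeEquiv e.toEquiv fun x => ?_)
    show x ∈ centralizer (zpowers (E ws [18]) : Set Spor.J4) ↔ e x ∈ centralizer (zpowers (e (E ws [18])) : Set G)
    rw [mem_centralizer_iff, mem_centralizer_iff]
    constructor
    · rintro h _ ⟨n, rfl⟩
      have h6 := h _ (zpow_mem (mem_zpowers _) n)
      show e (E ws [18]) ^ n * e x = e x * e (E ws [18]) ^ n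
      rw [← map_zpow, ← map_mul, ← map_mul, h6]
    · rintro h _ ⟨n, rfl⟩
      have h6 := h _ (zpow_mem (mem_zpowers (e (E ws [18]))) n)
      apply e.injective
      show e (E ws [18] ^ n * x) = e (x * E ws [18] ^ n)
      rw [map_mul, map_mul, map_zpow, h6]
  obtain ⟨D⟩ := exists_data h1
  obtain ⟨D'⟩ := map_data D e
  exact M22Main.main F D'

end Cfsg.Agent.H935.J4Max.M22Fin
end

private theorem dce_677fa4d7c794 : _root_.True := by
  try have : _root_.True := by simp only [_root_.Cfsg.Agent.H866.J4Ord.lJ.eq_1]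
  exact _root_.True.intro
end
end
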